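import Mathlib

/-!
Product action wreath products `S_m ≀ S_k` on `Fin k → Fin m`: basic lemmas.
-/

set_option autoImplicit false

namespace Cfsg.Agent.PA24

open Equiv Equiv.Perm Finset

variable {k m : ℕ}

abbrev Pt (k m : ℕ) := Fin k → Fin m

/-- element of the wreath product -/
def we (π : Perm (Fin k)) (τ : Fin k → Perm (Fin m)) : Perm (Pt k m) where
  toFun f i := τ i (f (π.symm i))
  invFun f i := (τ (π i)).symm (f (π i))
  left_inv f := by funext i; simp
  right_inv f := by funext i; simp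

@[simp] theorem we_apply (π : Perm (Fin k)) (τ : Fin k → Perm (Fin m)) (f : Pt k m) (i : Fin k) :
    we π τ f i = τ i (f (π.symm i)) := rfl

def IsW (σ : Perm (Pt k m)) : Prop :=
  ∃ (π : Perm (Fin k)) (τ : Fin k → Perm (Fin m)), ∀ f i, σ f i = τ i (f (π.symm i))

theorem isW_iff {σ : Perm (Pt k m)} : IsW σ ↔ ∃ π τ, σ = we π τ := by
  constructor
  · rintro ⟨π, τ, h⟩
    exact ⟨π, τ, Equiv.ext fun f => funext fun i => h f i⟩
  · rintro ⟨π, τ, rfl⟩
    exact ⟨π, τ, fun _ _ => rfl⟩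

theorem isW_we (π : Perm (Fin k)) (τ : Fin k → Perm (Fin m)) : IsW (we π τ) :=
  ⟨π, τ, fun _ _ => rfl⟩

theorem we_one : we (1 : Perm (Fin k)) (1 : Fin k → Perm (Fin m)) = 1 :=
  Equiv.ext fun f => funext fun i => rfl

theorem we_mul (π π' : Perm (Fin k)) (τ τ' : Fin k → Perm (Fin m)) :
    we π τ * we π' τ' = we (π * π') (fun i => τ i * τ' (π.symm i)) :=
  Equiv.ext fun f => funext fun i => rfl

theorem we_inv (π : Perm (Fin k)) (τ : Fin k → Perm (Fin m)) :
    (we π τ)⁻¹ = we π⁻¹ (fun i => (τ (π i))⁻¹) :=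
  Equiv.ext fun f => funext fun i => rfl

/-- the wreath product as a subgroup -/
def wsub (k m : ℕ) : Subgroup (Perm (Pt k m)) where
  carrier := {σ | IsW σ}
  one_mem' := ⟨1, 1, fun _ _ => rfl⟩
  mul_mem' := by
    intro a b ha hb
    obtain ⟨π, τ, rfl⟩ := isW_iff.1 ha
    obtain ⟨π', τ', rfl⟩ := isW_iff.1 hb
    rw [we_mul]; exact isW_we _ _
  inv_mem' := by
    intro a ha
    obtain ⟨π, τ, rfl⟩ := isW_iff.1 ha
    rw [we_inv]; exact isW_we _ _

theorem mem_wsub {σ : Perm (Pt k m)} : σ ∈ wsub k m ↔ IsW σ := Iff.rfl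

/-- the base group -/
def bas : (Fin k → Perm (Fin m)) →* Perm (Pt k m) where
  toFun τ := we 1 τ
  map_one' := we_one
  map_mul' τ τ' := by rw [we_mul]; rfl

@[simp] theorem bas_apply (τ : Fin k → Perm (Fin m)) (f : Pt k m) (i : Fin k) :
    bas τ f i = τ i (f i) := rfl

theorem bas_eq (τ : Fin k → Perm (Fin m)) : bas τ = we 1 τ := rfl

/-- action on one coordinate -/
def ι (i : Fin k) : Perm (Fin m) →* Perm (Pt k m) :=
  (bas (k := k) (m := m)).comp (MonoidHom.mulSingle (fun _ : Fin k => Perm (Fin m)) i)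

theorem ι_eq (i : Fin k) (α : Perm (Fin m)) : ι i α = bas (Pi.mulSingle i α) := rfl

@[simp] theorem ι_apply (i : Fin k) (α : Perm (Fin m)) (f : Pt k m) :
    ι i α f = Function.update f i (α (f i)) := by
  funext j
  rcases eq_or_ne j i with rfl | h
  · simp [ι_eq]
  · simp [ι_eq, h]

theorem isW_ι (i : Fin k) (α : Perm (Fin m)) : IsW (ι i α) := isW_we _ _

theorem isW_bas (τ : Fin k → Perm (Fin m)) : IsW (bas τ) := isW_we _ _

theorem ι_commute {i j : Fin k} (h : i ≠ j) (α β : Perm (Fin m)) :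
    Commute (ι i α) (ι j β) :=
  ((Pi.mulSingle_commute (f := fun _ : Fin k => Perm (Fin m))) h α β).map bas

theorem ι_eq_iff_apply {i : Fin k} {α : Perm (Fin m)} {f : Pt k m} :
    ι i α f = f ↔ α (f i) = f i := by
  rw [ι_apply, Function.update_eq_self_iff]

theorem ι_injective (i : Fin k) : Function.Injective (ι (m := m) i) := by
  intro α β h
  ext x
  have := congrArg (fun g : Perm (Pt k m) => g (fun _ => x) i) h
  simpa [Fin.ext_iff] using this

theorem we_conj_ι (π : Perm (Fin k)) (τ : Fin k → Perm (Fin m)) (i : Fin k)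
    (α : Perm (Fin m)) :
    we π τ * ι i α * (we π τ)⁻¹ = ι (π i) (τ (π i) * α * (τ (π i))⁻¹) := by
  rw [mul_inv_eq_iff_eq_mul]
  refine Equiv.ext fun f => funext fun j => ?_
  simp only [Perm.coe_mul, Function.comp_apply, we_apply, ι_apply]
  rcases eq_or_ne j (π i) with rfl | h
  · simp
  · have h' : π.symm j ≠ i := fun e => h (by simp [← e])
    simp [h, h']

theorem we_conj_bas (π : Perm (Fin k)) (τ : Fin k → Perm (Fin m))
    (ρ : Fin k → Perm (Fin m)) :
    we π τ * bas ρ * (we π τ)⁻¹ = bas (fun i => τ i * ρ (π.symm i) * (τ i)⁻¹) := by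
  rw [mul_inv_eq_iff_eq_mul]
  refine Equiv.ext fun f => funext fun j => ?_
  simp

/-- base-even -/
def EvB (τ : Fin k → Perm (Fin m)) : Prop := ∏ i, sign (τ i) = 1

theorem evB_single {i : Fin k} {α : Perm (Fin m)} (h : sign α = 1) :
    EvB (Pi.mulSingle i α) := by
  refine Finset.prod_eq_one fun j _ => ?_
  rcases eq_or_ne j i with rfl | hj
  · simpa using h
  · simp [hj]

theorem prod_sign_single (i : Fin k) (α : Perm (Fin m)) :
    ∏ j, sign ((Pi.mulSingle i α : Fin k → Perm (Fin m)) j) = sign α := by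
  rw [Finset.prod_eq_single i]
  · simp
  · intro j _ hj; simp [hj]
  · simp

theorem evB_pair {c d : Fin k} {α β : Perm (Fin m)} (h : sign α * sign β = 1) :
    EvB ((Pi.mulSingle c α : Fin k → Perm (Fin m)) * Pi.mulSingle d β) := by
  unfold EvB
  simp only [Pi.mul_apply, map_mul, Finset.prod_mul_distrib, prod_sign_single]
  exact h

theorem evB_conj {τ : Fin k → Perm (Fin m)} (h : EvB τ) (π : Perm (Fin k))
    (ρ : Fin k → Perm (Fin m)) : EvB (fun i => ρ i * τ (π.symm i) * (ρ i)⁻¹) := by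
  unfold EvB
  simp only [map_mul, map_inv, mul_inv_cancel_comm]
  rw [Equiv.prod_comp π.symm (fun i => sign (τ i))]
  exact h

/-- hypotheses on the overgroup -/
structure Hyp (H : Subgroup (Perm (Pt k m))) : Prop where
  hm : 5 ≤ m
  hk : 2 ≤ k
  base : ∀ τ, EvB τ → bas τ ∈ H
  top : ∀ π, ∃ τ, we π τ ∈ H

/-- `H` contains all conjugates of the even base by `g` -/
def Nrm (H : Subgroup (Perm (Pt k m))) (g : Perm (Pt k m)) : Prop :=
  ∀ τ, EvB τ → g * bas τ * g⁻¹ ∈ H

variable {H : Subgroup (Perm (Pt k m))}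

theorem Hyp.nrm_of_mem (hH : Hyp H) {h : Perm (Pt k m)} (hh : h ∈ H) : Nrm H h :=
  fun τ hτ => H.mul_mem (H.mul_mem hh (hH.base τ hτ)) (H.inv_mem hh)

theorem Nrm.mul_w {g w : Perm (Pt k m)} (hg : Nrm H g) (hw : IsW w) : Nrm H (g * w) := by
  obtain ⟨π, τ, rfl⟩ := isW_iff.1 hw
  intro ρ hρ
  have := hg _ (evB_conj hρ π τ)
  rw [← we_conj_bas] at this
  simpa [mul_assoc] using this

theorem Hyp.ι_mem (hH : Hyp H) (i : Fin k) {α : Perm (Fin m)} (h : sign α = 1) : ι i α ∈ H :=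
  hH.base _ (evB_single h)

theorem Hyp.ι_pair (hH : Hyp H) (c d : Fin k) {α β : Perm (Fin m)}
    (h : sign α * sign β = 1) : ι c α * ι d β ∈ H := by
  rw [ι_eq, ι_eq, ← map_mul]
  exact hH.base _ (evB_pair h)

theorem Nrm.ι_mem {g : Perm (Pt k m)} (hg : Nrm H g) (i : Fin k) {α : Perm (Fin m)}
    (h : sign α = 1) : g * ι i α * g⁻¹ ∈ H :=
  hg _ (evB_single h)

theorem Nrm.ι_pair {g : Perm (Pt k m)} (hg : Nrm H g) (c d : Fin k) {α β : Perm (Fin m)}
    (h : sign α * sign β = 1) : g * (ι c α * ι d β) * g⁻¹ ∈ H := by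
  rw [ι_eq, ι_eq, ← map_mul]
  exact hg _ (evB_pair h)

/-- the three cycle `a ↦ b ↦ c ↦ a` -/
def c3 {α : Type*} [DecidableEq α] (a b c : α) : Perm α := swap a b * swap b c

section c3
variable {α : Type*} [DecidableEq α] {a b c x : α}

theorem c3_fst (h1 : a ≠ b) (h3 : a ≠ c) : c3 a b c a = b := by
  simp [c3, Equiv.swap_apply_of_ne_of_ne h1 h3]

theorem c3_snd (h3 : a ≠ c) (h2 : b ≠ c) : c3 a b c b = c := by
  simp [c3, Equiv.swap_apply_of_ne_of_ne (Ne.symm h3) (Ne.symm h2)]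

theorem c3_thd : c3 a b c c = a := by
  simp [c3]

theorem c3_other (ha : x ≠ a) (hb : x ≠ b) (hc : x ≠ c) : c3 a b c x = x := by
  simp [c3, Equiv.swap_apply_of_ne_of_ne hb hc, Equiv.swap_apply_of_ne_of_ne ha hb]

theorem c3_isThreeCycle [Fintype α] (h1 : a ≠ b) (h2 : b ≠ c) (h3 : a ≠ c) :
    (c3 a b c).IsThreeCycle := by
  have := isThreeCycle_swap_mul_swap_same (a := b) (b := a) (c := c) h1.symm h2 h3
  simpa [c3, Equiv.swap_comm] using this

theorem sign_c3 [Fintype α] (h1 : a ≠ b) (h2 : b ≠ c) : sign (c3 a b c) = 1 := by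
  simp [c3, sign_swap h1, sign_swap h2]

theorem conj_c3 (ρ : Perm α) : ρ * c3 a b c * ρ⁻¹ = c3 (ρ a) (ρ b) (ρ c) := by
  unfold c3
  rw [Equiv.swap_apply_apply ρ a b, Equiv.swap_apply_apply ρ b c]
  group

theorem c3_pow_three [Fintype α] (h1 : a ≠ b) (h2 : b ≠ c) (h3 : a ≠ c) : c3 a b c ^ 3 = 1 := by
  have := (c3_isThreeCycle h1 h2 h3).orderOf
  rw [← this]; exact pow_orderOf_eq_one _

end c3

/-- fixed point count -/
noncomputable def fc {α : Type*} (σ : Perm α) : ℕ := Nat.card {x // σ x = x}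

theorem fc_conj {α : Type*} (g σ : Perm α) : fc (g * σ * g⁻¹) = fc σ := by
  refine Nat.card_congr ((g.subtypeEquiv fun x => ?_).symm)
  simp

theorem fc_eq {α : Type*} [Fintype α] [DecidableEq α] (σ : Perm α) :
    fc σ = Fintype.card α - σ.support.card := by
  rw [fc, Nat.card_eq_fintype_card, Fintype.card_subtype]
  have := Finset.card_compl σ.support
  rw [← this]
  congr 1
  ext x; simp

theorem fc_bas (τ : Fin k → Perm (Fin m)) : fc (bas τ) = ∏ i, fc (τ i) := by
  unfold fc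
  rw [← Nat.card_pi]
  exact Nat.card_congr
    ((Equiv.subtypeEquivRight fun f => by
        constructor
        · intro h i; simpa using congrFun h i
        · intro h; funext i; simpa using h i).trans
      (Equiv.subtypePiEquivPi (p := fun i x => τ i x = x)))

theorem fc_one : fc (1 : Perm (Fin m)) = m := by
  simp [fc_eq]

theorem fc_ι (i : Fin k) (α : Perm (Fin m)) : fc (ι i α) = fc α * m ^ (k - 1) := by
  rw [ι_eq, fc_bas, ← Finset.mul_prod_erase _ _ (Finset.mem_univ i)]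
  congr 1
  · simp
  · rw [Finset.prod_congr rfl (g := fun _ => m) (fun j hj => by
      rw [Pi.mulSingle_eq_of_ne (Finset.ne_of_mem_erase hj)]; exact fc_one)]
    simp

theorem fc_we_le {π : Perm (Fin k)} (hπ : π ≠ 1) (τ : Fin k → Perm (Fin m)) :
    fc (we π τ) ≤ m ^ (k - 1) := by
  obtain ⟨j, hj⟩ : ∃ j, π.symm j ≠ j := by
    by_contra h
    simp only [not_exists, not_not] at h
    apply hπ
    ext j
    have := congrArg π (h j)
    simpa [Fin.ext_iff] using this.symm
  have : fc (we π τ) ≤ Nat.card ({i : Fin k // i ≠ j} → Fin m) := by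
    refine Nat.card_le_card_of_injective (fun z i => z.1 i) ?_
    rintro ⟨z, hz⟩ ⟨z', hz'⟩ h
    apply Subtype.ext
    funext i
    rcases eq_or_ne i j with rfl | hi
    · have e := congrFun h ⟨_, hj⟩
      change z i = z' i
      rw [← congrFun hz i, ← congrFun hz' i]
      simp only [we_apply]
      simp only at e
      rw [e]
    · exact congrFun h ⟨i, hi⟩
  simpa [Fintype.card_subtype_compl] using this

theorem fc_le (α : Perm (Fin m)) : fc α ≤ m := by
  simp [fc_eq]

theorem fc_le_sub_two {α : Perm (Fin m)} (h : α ≠ 1) : fc α + 2 ≤ m := by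
  have := two_le_card_support_of_ne_one h
  have := α.support.card_le_univ
  simp [fc_eq] at *
  omega

end Cfsg.Agent.PA24
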