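import Cfsg.Agent.PA24.Recog

/-!
Primitivity, and: an element confined to a box gives the alternating group.
-/

set_option autoImplicit false

namespace Cfsg.Agent.PA24

open Equiv Equiv.Perm Finset MulAction

variable {k m : ℕ} {H : Subgroup (Perm (Pt k m))}

theorem exists_fresh (hm : 5 ≤ m) (s : Finset (Fin m)) (hs : s.card ≤ 4) : ∃ y, y ∉ s := by
  by_contra h
  simp only [not_exists, not_not] at h
  have := congrArg Finset.card (Finset.eq_univ_iff_forall.2 h)
  simp at this
  omega

/-- even permutation moving `u` to `v` -/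
theorem exists_even_map (hm : 5 ≤ m) (u v : Fin m) : ∃ α, sign α = 1 ∧ α u = v := by
  rcases eq_or_ne u v with rfl | h
  · exact ⟨1, by simp, rfl⟩
  obtain ⟨y, hy⟩ := exists_fresh hm {u, v} (Finset.card_le_two.trans (by omega))
  simp at hy
  exact ⟨c3 u v y, sign_c3 h (Ne.symm hy.2), c3_fst h (Ne.symm hy.1)⟩

/-- even permutation fixing `a`, moving `u` to `v` -/
theorem exists_even_fix (hm : 5 ≤ m) {a u v : Fin m} (hu : a ≠ u) (hv : a ≠ v) :
    ∃ α, sign α = 1 ∧ α a = a ∧ α u = v := by
  rcases eq_or_ne u v with rfl | h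
  · exact ⟨1, by simp, rfl, rfl⟩
  obtain ⟨y, hy⟩ := exists_fresh hm {u, v, a} (Finset.card_le_three.trans (by omega))
  simp at hy
  exact ⟨c3 u v y, sign_c3 h (Ne.symm hy.2.1), c3_other hu hv (Ne.symm hy.2.2),
    c3_fst h (Ne.symm hy.1)⟩

theorem preprimitive (hH : Hyp H) : IsPreprimitive H (Pt k m) := by
  classical
  have htr : IsPretransitive H (Pt k m) := by
    refine ⟨fun x y => ?_⟩
    choose α hα hxy using fun i => exists_even_map hH.hm (x i) (y i)
    refine ⟨⟨bas α, hH.base α (Finset.prod_eq_one fun i _ => hα i)⟩, ?_⟩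
    funext i
    simpa [Subgroup.smul_def] using hxy i
  refine { toIsPretransitive := htr, isTrivialBlock_of_isBlock := ?_ }
  intro B hB
  by_cases hs : B.Subsingleton
  · exact Or.inl hs
  right
  have hstab : ∀ g ∈ H, ∀ z ∈ B, g z ∈ B → ∀ w ∈ B, g w ∈ B := by
    intro g hg z hz hgz w hw
    have e := MulAction.IsBlock.smul_eq_of_mem hB hz (g := ⟨g, hg⟩)
      (show (⟨g, hg⟩ : H) • z ∈ B from hgz)
    rw [← e]
    exact ⟨w, hw, rfl⟩
  rw [Set.not_subsingleton_iff] at hs
  obtain ⟨z, hz, z', hz', hne⟩ := hs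
  obtain ⟨i, hi⟩ := Function.ne_iff.1 hne
  obtain ⟨y, hy⟩ := exists_fresh hH.hm {z i, z' i} (Finset.card_le_two.trans (by omega))
  simp at hy
  obtain ⟨α, hα, hαz, hαz'⟩ := exists_even_fix hH.hm hi (Ne.symm hy.1)
  have h1 : ι i α z = z := ι_eq_iff_apply.2 hαz
  have hu : Function.update z' i y ∈ B := by
    have := hstab _ (hH.ι_mem i hα) z hz (by rw [h1]; exact hz) z' hz'
    rwa [ι_apply, hαz'] at this
  have hline : ∀ w, Function.update z' i w ∈ B := by
    intro w
    rcases eq_or_ne w (z' i) with rfl | hw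
    · simpa using hz'
    obtain ⟨β, hβ, hβz, hβy⟩ := exists_even_fix hH.hm (Ne.symm hy.2) (Ne.symm hw)
    have h2 : ι i β z' = z' := ι_eq_iff_apply.2 hβz
    have := hstab _ (hH.ι_mem i hβ) z' hz' (by rw [h2]; exact hz') _ hu
    simpa [hβy] using this
  have inv : ∀ (u : Pt k m) (j : Fin k), u ∈ B → (∀ w, Function.update u j w ∈ B) →
      ∀ x ∈ B, ∀ w, Function.update x j w ∈ B := by
    intro u j hu hl x hx w
    obtain ⟨β, hβ, hβw⟩ := exists_even_map hH.hm (x j) w
    have := hstab _ (hH.ι_mem j hβ) u hu (by rw [ι_apply]; exact hl _) x hx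
    rwa [ι_apply, hβw] at this
  have hall : ∀ j, ∀ x ∈ B, ∀ w, Function.update x j w ∈ B := by
    intro j
    obtain ⟨τ, hτ⟩ := hH.top (swap i j)
    choose β hβ hβz using fun l => exists_even_map hH.hm (we (swap i j) τ z' l) (z' l)
    let g := bas β * we (swap i j) τ
    have hg : g ∈ H := mul_mem (hH.base β (Finset.prod_eq_one fun l _ => hβ l)) hτ
    have hgz : g z' = z' := funext fun l => by simpa [g] using hβz l
    refine inv z' j hz' fun w => ?_
    let f := β j * τ j
    have := hstab g hg z' hz' (by rw [hgz]; exact hz') _ (hline (f.symm w))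
    convert this using 1
    funext l
    rcases eq_or_ne l j with rfl | hl
    · rw [Function.update_self]
      have e := f.apply_symm_apply w
      simp only [f, Perm.mul_apply] at e
      simp [g, f]
      exact e.symm
    · have hsl : (swap i j) l ≠ i := fun e => hl (by
        rw [← swap_apply_self i j l, e, swap_apply_left])
      rw [Function.update_of_ne hl]
      conv_lhs => rw [← congrFun hgz l]
      simp [g, hsl]
  rw [Set.eq_univ_iff_forall]
  intro x
  have : ∀ s : Finset (Fin k), s.piecewise x z ∈ B := by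
    intro s
    induction s using Finset.induction_on with
    | empty => simpa using hz
    | insert a s _ ih => rw [Finset.piecewise_insert]; exact hall a _ ih _
  simpa using this Finset.univ

theorem alt_of_threeCycle (hH : Hyp H) {g : Perm (Pt k m)} (hg : g ∈ H) (h3 : g.IsThreeCycle) :
    alternatingGroup (Pt k m) ≤ H :=
  alternatingGroup_le_of_isPreprimitive_of_isThreeCycle_mem (preprimitive hH) h3 hg

/-- `g` acts on the coordinates in `D` only -/
structure Only (D : Finset (Fin k)) (g : Perm (Pt k m)) : Prop where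
  out : ∀ z i, i ∉ D → g z i = z i
  dep : ∀ z z', (∀ i ∈ D, z i = z' i) → ∀ i ∈ D, g z i = g z' i

namespace Only

variable {D D' : Finset (Fin k)} {g h : Perm (Pt k m)}

theorem mul (hg : Only D g) (hh : Only D h) : Only D (g * h) :=
  ⟨fun z i hi => by rw [Perm.mul_apply, hg.out _ i hi, hh.out _ i hi],
    fun z z' e i hi => hg.dep _ _ (fun j hj => hh.dep z z' e j hj) i hi⟩

theorem pow (hg : Only D g) : ∀ n : ℕ, Only D (g ^ n)
  | 0 => ⟨fun _ _ _ => rfl, fun _ _ e i hi => e i hi⟩
  | n + 1 => by rw [pow_succ]; exact (Only.pow hg n).mul hg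

theorem inv (hg : Only D g) : Only D g⁻¹ := by
  have h : g⁻¹ = g ^ (orderOf g - 1) := inv_eq_of_mul_eq_one_left (by
    rw [← pow_succ, Nat.sub_add_cancel (orderOf_pos g), pow_orderOf_eq_one])
  rw [h]; exact hg.pow _

theorem mono (hg : Only D g) (hDD : D ⊆ D') : Only D' g := by
  refine ⟨fun z i hi => hg.out z i fun h => hi (hDD h), fun z z' e i hi => ?_⟩
  by_cases h : i ∈ D
  · exact hg.dep z z' (fun j hj => e j (hDD hj)) i h
  · rw [hg.out _ i h, hg.out _ i h]; exact e i hi

theorem moved_congr (hg : Only D g) {z z' : Pt k m} (e : ∀ i ∈ D, z i = z' i) (h : g z ≠ z) :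
    g z' ≠ z' := by
  intro h'
  apply h
  funext i
  by_cases hi : i ∈ D
  · rw [hg.dep z z' e i hi, h', e i hi]
  · exact hg.out z i hi

theorem bas_conj (hg : Only D g) (τ : Fin k → Perm (Fin m)) :
    Only D (bas τ * g * (bas τ)⁻¹) := by
  rw [← map_inv]
  refine ⟨fun z i hi => ?_, fun z z' h i hi => ?_⟩
  · simp only [Perm.mul_apply, bas_apply, hg.out _ i hi]
    simp
  · simp only [Perm.mul_apply, bas_apply]
    rw [hg.dep (bas τ⁻¹ z) (bas τ⁻¹ z') (fun j hj => by simp only [bas_apply, h j hj]) i hi]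

theorem we_conj (hg : Only D g) (π : Perm (Fin k)) (τ : Fin k → Perm (Fin m)) :
    Only (D.image π) (we π τ * g * (we π τ)⁻¹) := by
  refine ⟨fun z i hi => ?_, fun z z' h i hi => ?_⟩
  · have : π.symm i ∉ D := fun hh => hi (Finset.mem_image.2 ⟨_, hh, by simp⟩)
    rw [we_inv]
    simp only [Perm.mul_apply, we_apply, hg.out _ _ this]
    simp [Perm.inv_def]
  · rw [we_inv]
    simp only [Perm.mul_apply, we_apply]
    have : π.symm i ∈ D := by
      obtain ⟨a, ha, rfl⟩ := Finset.mem_image.1 hi
      simpa using ha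
    rw [hg.dep _ _ (fun j hj => ?_) _ this]
    simp [Perm.inv_def, h (π j) (Finset.mem_image.2 ⟨j, hj, rfl⟩)]

theorem eq_of_agree (hg : Only D g) {z : Pt k m} (h : ∀ i ∈ D, g z i = z i) : g z = z := by
  funext i
  by_cases hi : i ∈ D
  · exact h i hi
  · exact hg.out z i hi

end Only

/-- a three cycle on the `D`-coordinates -/
def Cyl (D : Finset (Fin k)) (g : Perm (Pt k m)) : Prop :=
  Only D g ∧ ∃ a b c, g a = b ∧ g b = c ∧ a ≠ b ∧ b ≠ c ∧ a ≠ c ∧
    ∀ z, g z ≠ z → (∀ i ∈ D, z i = a i) ∨ (∀ i ∈ D, z i = b i) ∨ (∀ i ∈ D, z i = c i)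

open scoped commutatorElement in
theorem cyl_of_meet {D : Finset (Fin k)} {l l' : Perm (Pt k m)} (hl : Only D l)
    (hl' : Only D l') {p : Pt k m} (hp : l p ≠ p) (hp' : l' p ≠ p)
    (hmeet : ∀ z, l z ≠ z → l' z ≠ z → ∀ i ∈ D, z i = p i) :
    Cyl D (l * l' * l⁻¹ * l'⁻¹) := by
  refine ⟨((hl.mul hl').mul hl.inv).mul hl'.inv, p, l p, l' p, ?_⟩
  have fixl : ∀ z, ¬(∀ i ∈ D, z i = p i) → l' z ≠ z → l z = z := fun z h1 h2 =>
    by_contra fun h => h1 (hmeet z h h2)
  have fixl' : ∀ z, ¬(∀ i ∈ D, z i = p i) → l z ≠ z → l' z = z := fun z h1 h2 =>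
    by_contra fun h => h1 (hmeet z h2 h)
  have nl : ¬(∀ i ∈ D, l p i = p i) := fun h => hp (hl.eq_of_agree h)
  have nl' : ¬(∀ i ∈ D, l' p i = p i) := fun h => hp' (hl'.eq_of_agree h)
  have ml : l (l p) ≠ l p := fun e => hp (l.injective e)
  have ml' : l' (l' p) ≠ l' p := fun e => hp' (l'.injective e)
  have hq : ¬(∀ i ∈ D, l'⁻¹ p i = p i) := fun h => by
    have := hl'.inv.eq_of_agree h
    apply hp'
    have e := congrArg l' this
    simpa using e.symm
  have hr : ¬(∀ i ∈ D, l⁻¹ p i = p i) := fun h => by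
    have := hl.inv.eq_of_agree h
    apply hp
    have e := congrArg l this
    simpa using e.symm
  have mq : l' (l'⁻¹ p) ≠ l'⁻¹ p := fun e => hq (by rw [← e]; simp)
  have mr : l (l⁻¹ p) ≠ l⁻¹ p := fun e => hr (by rw [← e]; simp)
  have fq : l⁻¹ (l'⁻¹ p) = l'⁻¹ p := by
    rw [Perm.inv_def l, Equiv.symm_apply_eq]
    exact (fixl _ hq mq).symm
  have e1 : (l * l' * l⁻¹ * l'⁻¹) p = l p := by
    simp only [Perm.mul_apply]
    rw [fq]; simp
  have e2 : (l * l' * l⁻¹ * l'⁻¹) (l p) = l' p := by
    simp only [Perm.mul_apply]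
    have : l'⁻¹ (l p) = l p := by
      rw [Perm.inv_def, Equiv.symm_apply_eq]
      exact (fixl' _ nl ml).symm
    rw [this]
    simp only [Perm.inv_def, Equiv.symm_apply_apply]
    exact fixl _ nl' ml'
  refine ⟨e1, e2, Ne.symm hp, ?_, Ne.symm hp', ?_⟩
  · intro e
    have h1 := fixl _ nl' ml'
    rw [← e] at h1
    exact ml h1
  intro z hz
  by_cases hA : ∀ i ∈ D, z i = p i
  · exact Or.inl hA
  by_cases h' : l' z = z
  · have hz' : l'⁻¹ z = z := by rw [Perm.inv_def, Equiv.symm_apply_eq, h']
    by_cases hB : ∀ i ∈ D, l⁻¹ z i = p i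
    · refine Or.inr (Or.inl fun i hi => ?_)
      have := hl.dep _ _ hB i hi
      simpa using this
    · exfalso
      apply hz
      simp only [Perm.mul_apply]
      rw [hz']
      by_cases hlz : l z = z
      · have : l⁻¹ z = z := by rw [Perm.inv_def, Equiv.symm_apply_eq, hlz]
        rw [this, h', hlz]
      · have : l' (l⁻¹ z) = l⁻¹ z := fixl' _ hB (fun e => hlz (by
          have e' := congrArg l e
          simpa using e'))
        rw [this]; simp
  · by_cases hC : ∀ i ∈ D, l'⁻¹ z i = p i
    · refine Or.inr (Or.inr fun i hi => ?_)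
      have := hl'.dep _ _ hC i hi
      simpa using this
    · exfalso
      apply hz
      simp only [Perm.mul_apply]
      have hm' : l' (l'⁻¹ z) ≠ l'⁻¹ z := fun e => h' (by
        have e' := congrArg l' e
        simpa using e')
      have : l⁻¹ (l'⁻¹ z) = l'⁻¹ z := by
        rw [Perm.inv_def l, Equiv.symm_apply_eq]
        exact (fixl _ hC hm').symm
      rw [this]
      simp only [Perm.inv_def, Equiv.apply_symm_apply]
      exact fixl _ hA h'

/-- even permutation fixing `p` moving `Y'` off `Y` -/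
theorem exists_spread (hm : 5 ≤ m) {p : Fin m} {Y Y' : Finset (Fin m)} (hp : p ∈ Y)
    (hp' : p ∈ Y') (hc : Y'.card ≤ Y.card) (hY : 2 * Y.card ≤ m + 1) :
    ∃ α, sign α = 1 ∧ α p = p ∧ ∀ y ∈ Y', α y ∈ Y → y = p := by
  obtain ⟨T, hT, hTc⟩ := Finset.exists_subset_card_eq
    (s := Yᶜ) (n := (Y'.erase p).card) (by
      rw [Finset.card_compl, Fintype.card_fin, Finset.card_erase_of_mem hp']
      omega)
  let e := (Y'.erase p).equivOfCardEq hTc.symm
  let f : Option (Y'.erase p) → Fin m := fun o => o.elim p (fun x => x.1)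
  let g : Option (Y'.erase p) → Fin m := fun o => o.elim p (fun x => (e x).1)
  have hf : Function.Injective f := by
    rintro (_ | x) (_ | y) h <;> simp [f] at h ⊢
    · exact (Finset.ne_of_mem_erase y.2) h.symm
    · exact (Finset.ne_of_mem_erase x.2) h
    · exact h
  have hpT : ∀ x : Y'.erase p, (e x).1 ≠ p := fun x h => by
    have := hT (e x).2
    rw [h] at this
    simp [hp] at this
  have hg : Function.Injective g := by
    rintro (_ | x) (_ | y) h <;> simp [g] at h ⊢
    · exact hpT y h.symm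
    · exact hpT x h
    · exact h
  obtain ⟨α, hα⟩ := Equiv.Perm.exists_extending_pair f g hf hg
  have hαp : α p = p := hα none
  have hαY : ∀ y ∈ Y', y ≠ p → α y ∉ Y := by
    intro y hy hne
    have := hα (some ⟨y, Finset.mem_erase.2 ⟨hne, hy⟩⟩)
    simp only [f, g, Option.elim] at this
    rw [this]
    have h2 := hT (e ⟨y, Finset.mem_erase.2 ⟨hne, hy⟩⟩).2
    simpa using h2
  rcases Int.units_eq_one_or (sign α) with hs | hs
  · exact ⟨α, hs, hαp, fun y hy h => by_contra fun hne => hαY y hy hne h⟩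
  · obtain ⟨u, v, hu, hv, huv, hiff⟩ : ∃ u v, u ≠ p ∧ v ≠ p ∧ u ≠ v ∧ (u ∈ Y' ↔ v ∈ Y') := by
      have : ¬ ((Finset.univ.erase p).image (fun x => decide (x ∈ Y'))).card ≥
          (Finset.univ.erase p).card := by
        have := Finset.card_le_univ ((Finset.univ.erase p).image (fun x => decide (x ∈ Y')))
        simp [Finset.card_erase_of_mem] at *
        omega
      by_contra hcon
      apply this
      rw [Finset.card_image_of_injOn]
      intro x hx y hy hxy
      by_contra hne
      exact hcon ⟨x, y, by simpa using hx, by simpa using hy, hne, by simpa using hxy⟩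
    refine ⟨α * swap u v, ?_, ?_, ?_⟩
    · rw [map_mul, hs, sign_swap huv]; rfl
    · simp [Equiv.swap_apply_of_ne_of_ne hu.symm hv.symm, hαp]
    · intro y hy h
      by_contra hne
      rcases eq_or_ne y u with rfl | hyu
      · simp at h
        exact hαY v (hiff.1 hy) hv h
      rcases eq_or_ne y v with rfl | hyv
      · simp at h
        exact hαY u (hiff.2 hy) hu h
      · simp [Equiv.swap_apply_of_ne_of_ne hyu hyv] at h
        exact hαY y hy hne h

theorem alt_of_cyl (hH : Hyp H) : ∀ (n : ℕ) (D : Finset (Fin k)) (g : Perm (Pt k m)),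
    Fintype.card (Fin k) ≤ D.card + n → 2 ≤ D.card → g ∈ H → Cyl D g →
    alternatingGroup (Pt k m) ≤ H := by
  intro n
  induction n with
  | zero =>
    intro D g hn hD hg ⟨_, a, b, c, hab, hbc, nab, nbc, nac, hsup⟩
    have hDu : D = Finset.univ :=
      Finset.eq_univ_of_card _ (le_antisymm D.card_le_univ (by simpa using hn))
    refine alt_of_threeCycle hH hg ?_
    rw [← card_support_eq_three_iff]
    have hs : g.support = {a, b, c} := by
      ext z
      simp only [mem_support, Finset.mem_insert, Finset.mem_singleton]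
      constructor
      · intro hz
        rcases hsup z hz with h | h | h
        · exact Or.inl (funext fun i => h i (by simp [hDu]))
        · exact Or.inr (Or.inl (funext fun i => h i (by simp [hDu])))
        · exact Or.inr (Or.inr (funext fun i => h i (by simp [hDu])))
      · rintro (rfl | rfl | rfl)
        · rw [hab]; exact nab.symm
        · rw [hbc]; exact nbc.symm
        · intro e; exact nbc (g.injective (hbc.trans e.symm))
    rw [hs, Finset.card_eq_three]
    exact ⟨a, b, c, nab, nac, nbc, rfl⟩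
  | succ n ih =>
    intro D g hn hD hg ⟨hon, a, b, c, hab, hbc, nab, nbc, nac, hsup⟩
    by_cases hfull : D = Finset.univ
    · exact ih D g (by subst hfull; simp) hD hg ⟨hon, a, b, c, hab, hbc, nab, nbc, nac, hsup⟩
    obtain ⟨c0, hc0D, hc0⟩ : ∃ i ∈ D, a i ≠ b i := by
      by_contra h
      simp only [not_exists, not_and, not_not] at h
      exact nab ((hon.eq_of_agree (fun i hi => by rw [hab]; exact (h i hi).symm)).symm.trans hab)
    obtain ⟨p, hp, huniq⟩ : ∃ p, g p ≠ p ∧
        ∀ z, g z ≠ z → z c0 = p c0 → ∀ i ∈ D, z i = p i := by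
      by_cases hca : c c0 = a c0
      · refine ⟨b, by rw [hbc]; exact nbc.symm, fun z hz e => ?_⟩
        rcases hsup z hz with h | h | h
        · exact absurd ((h c0 hc0D).symm.trans e) hc0
        · exact h
        · exact absurd (hca.symm.trans ((h c0 hc0D).symm.trans e)) hc0
      · refine ⟨a, by rw [hab]; exact nab.symm, fun z hz e => ?_⟩
        rcases hsup z hz with h | h | h
        · exact h
        · exact absurd ((h c0 hc0D).symm.trans e).symm hc0
        · exact absurd ((h c0 hc0D).symm.trans e) hca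
    let Y : Finset (Fin m) := {a c0, b c0, c c0}
    have hYsup : ∀ z, g z ≠ z → z c0 ∈ Y := by
      intro z hz
      rcases hsup z hz with h | h | h <;> simp [Y, h c0 hc0D]
    obtain ⟨nw, hnw⟩ : ∃ nw, nw ∉ D := by
      by_contra h
      simp only [not_exists, not_not] at h
      exact hfull (Finset.eq_univ_iff_forall.2 h)
    obtain ⟨j, hj, hjc⟩ := Finset.exists_mem_ne hD c0
    obtain ⟨τ, hτ⟩ := hH.top (swap j nw)
    have hnwc : nw ≠ c0 := fun e => hnw (e ▸ hc0D)
    choose β hβ hβp using fun i => exists_even_map hH.hm (we (swap j nw) τ p i) (p i)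
    have hsw : swap j nw c0 = c0 := Equiv.swap_apply_of_ne_of_ne hjc.symm hnwc.symm
    let γ := β c0 * τ c0
    have hγp : γ (p c0) = p c0 := by
      have := hβp c0
      simpa [hsw, γ] using this
    have hYcard : Y.card ≤ 3 := Finset.card_le_three
    obtain ⟨α, hα, hαp, hαY⟩ := exists_spread (Y' := Y.image γ) hH.hm (hYsup p hp)
      (Finset.mem_image.2 ⟨_, hYsup p hp, hγp⟩) Finset.card_image_le
      (by have := hH.hm; omega)
    let β' := Function.update β c0 (α * β c0)
    have hβ' : EvB β' := Finset.prod_eq_one fun i _ => by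
      rcases eq_or_ne i c0 with rfl | hi
      · simp [β', hα, hβ]
      · simp [β', hi, hβ]
    let h := bas β' * we (swap j nw) τ
    have hh : h ∈ H := mul_mem (hH.base _ hβ') hτ
    have hhp : h p = p := by
      funext i
      rcases eq_or_ne i c0 with rfl | hi
      · have := hβp i
        simp [hsw] at this
        simp [h, β', hsw, this, hαp]
      · simpa [h, β', hi] using hβp i
    let g' := h * g * h⁻¹
    have hg' : g' ∈ H := mul_mem (mul_mem hh hg) (inv_mem hh)
    let D' := D.image (swap j nw)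
    have hon' : Only D' g' := by
      have := (hon.we_conj (swap j nw) τ).bas_conj β'
      simpa [g', h, D', mul_assoc] using this
    have hmove : ∀ z, g' z ≠ z ↔ g (h⁻¹ z) ≠ h⁻¹ z := by
      intro z
      rw [not_iff_not]
      simp only [g', Perm.mul_apply]
      constructor
      · intro e
        have := congrArg (h⁻¹ : Perm (Pt k m)) e
        simpa using this
      · intro e; rw [e]; simp
    have hp' : g' p ≠ p := by
      rw [hmove]
      have : h⁻¹ p = p := by rw [Perm.inv_def, Equiv.symm_apply_eq, hhp]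
      rw [this]; exact hp
    have hmeet : ∀ z, g z ≠ z → g' z ≠ z → ∀ i ∈ D ∪ D', z i = p i := by
      intro z hz hz'
      rw [hmove] at hz'
      set w := h⁻¹ z with hw
      have hzw : z = h w := by simp [hw]
      have ezc : z c0 = α (γ (w c0)) := by
        rw [hzw]; simp [h, β', γ, hsw]
      have hwc : w c0 = p c0 := by
        have h1 := hαY (γ (w c0)) (Finset.mem_image_of_mem _ (hYsup w hz'))
          (ezc ▸ hYsup z hz)
        exact γ.injective (h1.trans hγp.symm)
      have hzc : z c0 = p c0 := by rw [ezc, hwc, hγp, hαp]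
      intro i hi
      rcases Finset.mem_union.1 hi with hi | hi
      · exact huniq z hz hzc i hi
      · obtain ⟨a', ha', rfl⟩ := Finset.mem_image.1 hi
        have := huniq w hz' hwc a' ha'
        rw [hzw, ← congrFun hhp (swap j nw a')]
        simp [h, this]
    refine ih (D ∪ D') _ ?_ (le_trans hD (Finset.card_le_card Finset.subset_union_left))
      (mul_mem (mul_mem (mul_mem hg hg') (inv_mem hg)) (inv_mem hg'))
      (cyl_of_meet (hon.mono Finset.subset_union_left) (hon'.mono Finset.subset_union_right)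
        hp hp' hmeet)
    have h1 : insert nw D ⊆ D ∪ D' := by
      intro x hx
      rcases Finset.mem_insert.1 hx with rfl | hx
      · exact Finset.mem_union_right _ (Finset.mem_image.2 ⟨j, hj, Equiv.swap_apply_left j x⟩)
      · exact Finset.mem_union_left _ hx
    have := Finset.card_le_card h1
    rw [Finset.card_insert_of_notMem hnw] at this
    omega

/-- an element confined to a box gives the alternating group -/
theorem alt_of_box (hH : Hyp H) {l : Perm (Pt k m)} (hl : l ∈ H) {C : Finset (Fin k)}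
    (hC : 2 ≤ C.card) (hon : Only C l) (hne : l ≠ 1) (Y : Fin k → Finset (Fin m))
    (hY : ∀ i ∈ C, 2 * (Y i).card ≤ m + 1) (hsup : ∀ i ∈ C, ∀ z, l z ≠ z → z i ∈ Y i) :
    alternatingGroup (Pt k m) ≤ H := by
  classical
  obtain ⟨p, hp⟩ : ∃ p, l p ≠ p := by
    by_contra h
    simp only [not_exists, not_not] at h
    exact hne (Equiv.ext h)
  have : ∀ i, ∃ α : Perm (Fin m), sign α = 1 ∧ α (p i) = p i ∧
      (i ∈ C → ∀ y ∈ Y i, α y ∈ Y i → y = p i) := by
    intro i
    by_cases hi : i ∈ C
    · obtain ⟨α, h1, h2, h3⟩ := exists_spread hH.hm (hsup i hi p hp) (hsup i hi p hp) le_rfl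
        (hY i hi)
      exact ⟨α, h1, h2, fun _ => h3⟩
    · exact ⟨1, map_one _, rfl, fun h => absurd h hi⟩
  choose β hβ hβp hβY using this
  have hb : bas β ∈ H := hH.base β (Finset.prod_eq_one fun i _ => hβ i)
  let l' := bas β * l * (bas β)⁻¹
  have hfix : bas β p = p := funext fun i => hβp i
  have hp' : l' p ≠ p := by
    intro e
    apply hp
    have e' := congrArg ((bas β)⁻¹ : Perm (Pt k m)) e
    have hfi : (bas β)⁻¹ p = p := by rw [Perm.inv_def, Equiv.symm_apply_eq, hfix]
    simp only [l', Perm.mul_apply, hfi] at e'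
    simpa using e'
  refine alt_of_cyl hH (Fintype.card (Fin k)) C _ (by omega) hC
    (mul_mem (mul_mem (mul_mem hl (mul_mem (mul_mem hb hl) (inv_mem hb))) (inv_mem hl))
      (inv_mem (mul_mem (mul_mem hb hl) (inv_mem hb))))
    (cyl_of_meet hon (hon.bas_conj β) hp hp' ?_)
  intro z hz hz' i hi
  set w := (bas β)⁻¹ z with hw
  have hw' : l w ≠ w := fun e => hz' (by
    simp only [l', Perm.mul_apply, ← hw, e]
    simp [hw])
  have e : z i = β i (w i) := by
    have : z = bas β w := by simp [hw]
    exact congrFun this i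
  have := hβY i hi (w i) (hsup i hi w hw') (e ▸ hsup i hi z hz)
  rw [e, this, hβp]

end Cfsg.Agent.PA24
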