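import Cfsg.Agent.PA24.Const

/-!
An element of the normalising set commuting with the slot group lies in the wreath product.
-/

set_option autoImplicit false

namespace Cfsg.Agent.PA24

open Equiv Equiv.Perm Finset
open scoped Fin.NatCast

variable {k m s : ℕ} {H : Subgroup (Perm (Pt k m))} {E : Slots k m s}

theorem isW_local {y : Perm (Pt k m)} (hm : 2 ≤ m) (hy : IsW y) {i : Fin k}
    {Y : Finset (Fin m)} {o : Fin m} (ho : o ∉ Y) (hfix : Conf y i Y) :
    ∃ ψ, y = ι i ψ := by
  obtain ⟨π, τ, rfl⟩ := isW_iff.1 hy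
  have hfx : ∀ z : Pt k m, z i ∉ Y → we π τ z = z := fun z hz =>
    by_contra fun h => hz (hfix z h)
  obtain ⟨o', ho'⟩ : ∃ o', o' ≠ o := ⟨if o.val = 0 then ⟨1, by omega⟩ else ⟨0, by omega⟩, by
    split <;> simp [Fin.ext_iff] <;> omega⟩
  have hπ : ∀ j, j ≠ i → π.symm j = j := by
    intro j hj
    by_contra hne
    have key : ∀ v, τ j o = v := fun v => by
      have := congrFun (hfx (Function.update (fun _ => o) j v) (by simp [hj.symm, ho])) j
      simpa [hne] using this
    exact ho' ((key o').symm.trans (key o))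
  have hπi : π.symm i = i := by
    by_contra hne
    exact hne (π.symm.injective (hπ _ hne))
  have hπ1 : π = 1 := by
    ext j
    have h : π.symm j = j := by rcases eq_or_ne j i with rfl | h; exacts [hπi, hπ j h]
    have := congrArg π h
    simpa [Fin.ext_iff] using this.symm
  subst hπ1
  refine ⟨τ i, ?_⟩
  rw [← bas_eq, ι_eq]
  congr 1
  funext j
  rcases eq_or_ne j i with rfl | hj
  · simp
  · rw [Pi.mulSingle_eq_of_ne hj]
    ext v
    have := congrFun (hfx (Function.update (fun _ => o) j v) (by simp [hj.symm, ho])) j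
    simp [Perm.one_def] at this
    simp [this]

open Classical in
theorem isW_of_commE (hH : Hyp H) (hA : ¬ alternatingGroup (Pt k m) ≤ H) {g : Perm (Pt k m)}
    (hg : CommE E g) (hN : Nrm H g) : IsW g := by
  have hm := hH.hm
  let o : Fin k → Fin s → Pt k m := fun i j _ => E.f i (j, 0)
  let c : Fin k → Fin s → Fin 3 := fun i j => rot E g i (o i j)
  have hc : ∀ i j z, z i ∈ E.tr i j → rot E g i z = c i j := by
    intro i j z hz
    have h1 := (hg.slab i j z).2 hz
    have h2 := (hg.slab i j (o i j)).2 (Slots.f_mem_tr 0)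
    have := slots_rigid hH hA hg hN i j (g z) (g (o i j)) h1 h2
    rwa [rot_inv hg (Slots.not_mem_F_of_tr h1), rot_inv hg (Slots.not_mem_F_of_tr h2),
      neg_inj] at this
  let tf : Fin k → Fin m → Fin m := fun i v =>
    if h : ∃ j, v ∈ E.tr i j then sh E i (c i h.choose) v else v
  have tf_tr : ∀ i j v, v ∈ E.tr i j → tf i v = sh E i (c i j) v := fun i j v hv => by
    have h : ∃ j, v ∈ E.tr i j := ⟨j, hv⟩
    simp only [tf, dif_pos h, Slots.tr_disj h.choose_spec hv]
  have tf_F : ∀ i v, v ∈ E.F i → tf i v = v := fun i v hv => by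
    simp only [tf]
    rw [dif_neg]
    exact fun ⟨j, hj⟩ => Slots.not_mem_F_of_tr hj hv
  have tf_inj : ∀ i, Function.Injective (tf i) := by
    intro i v v' e
    by_cases hv : v ∈ E.F i <;> by_cases hv' : v' ∈ E.F i
    · rwa [tf_F i v hv, tf_F i v' hv'] at e
    · obtain ⟨j, hj⟩ := Slots.not_mem_F.1 hv'
      rw [tf_F i v hv, tf_tr i j v' hj] at e
      exact absurd hv (Slots.not_mem_F_of_tr (e ▸ sh_mem_tr _ hj))
    · obtain ⟨j, hj⟩ := Slots.not_mem_F.1 hv
      rw [tf_F i v' hv', tf_tr i j v hj] at e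
      exact absurd hv' (Slots.not_mem_F_of_tr (e ▸ sh_mem_tr _ hj))
    · obtain ⟨j, hj⟩ := Slots.not_mem_F.1 hv
      obtain ⟨j', hj'⟩ := Slots.not_mem_F.1 hv'
      rw [tf_tr i j v hj, tf_tr i j' v' hj'] at e
      have hjj : j = j' := Slots.tr_disj (sh_mem_tr (c i j) hj) (e ▸ sh_mem_tr _ hj')
      subst hjj
      have := congrArg (sh E i (- c i j)) e
      simpa [sh_sh, sh_zero] using this
  let τ : Fin k → Perm (Fin m) := fun i => Equiv.ofBijective _ (tf_inj i).bijective_of_finite
  have hτ : ∀ i v, τ i v = tf i v := fun _ _ => rfl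
  have hrot : IsRot E (bas τ) (fun i y => if h : ∃ j, y i ∈ E.tr i j then c i h.choose else 0) := by
    refine ⟨fun i z w hzw => ?_, fun y i => ?_⟩
    · simp only [hzw.mem_tr]
    · simp only [bas_apply, hτ, tf]
      split
      · rfl
      · rw [sh_zero]
  set g1 := g * (bas τ)⁻¹ with hg1
  have hN1 : Nrm H g1 := hN.mul_w ((wsub k m).inv_mem (isW_bas τ))
  have hC1 : CommE E g1 := hg.mul hrot.commE.inv
  have hP1 : ∀ i, Pres E g1 i := by
    intro i
    refine ⟨fun z v hv => ?_, hC1 i⟩
    by_cases hz : z i ∈ E.F i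
    · constructor
      · intro e; exact absurd (e ▸ (hC1.mem_F i z).2 hz) hv
      · intro e; exact absurd (e ▸ hz) hv
    · obtain ⟨u, rfl⟩ := (bas τ).surjective z
      have : g1 (bas τ u) i = bas τ u i := by
        simp only [hg1, Perm.mul_apply, Perm.inv_def, Equiv.symm_apply_apply]
        have hu : u i ∉ E.F i := fun h => hz (by rwa [bas_apply, hτ, tf_F i _ h])
        obtain ⟨j, hj⟩ := Slots.not_mem_F.1 hu
        rw [hg.apply_rot hu, hc i j u hj, bas_apply, hτ, tf_tr i j _ hj]
      rw [this]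
  -- normalise the leftover values
  have hθ : ∀ i, ∃ θ : Perm (Fin m), (∀ v, v ∉ E.F i → θ v = v) ∧
      (3 ≤ (E.F i).card → ∀ z, z i ∈ E.F i → g1 z i = θ (z i)) := by
    intro i
    by_cases h3 : 3 ≤ (E.F i).card
    swap
    · exact ⟨1, fun _ _ => rfl, fun h => absurd h h3⟩
    have hψ : ∀ a b, a ∈ E.F i → b ∈ E.F i → a ≠ b →
        ∃ ψ, g1 * ι i (swap a b) * g1⁻¹ = ι i ψ := by
      intro a b ha hb hab
      have hβ : ∀ v, v ∉ E.F i → swap a b v = v := fun v hv =>
        Equiv.swap_apply_of_ne_of_ne (fun e => hv (e ▸ ha)) (fun e => hv (e ▸ hb))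
      have hconf : Conf (cm g1 (ι i (swap a b))) i (E.F i) :=
        cm_conf_same (fun z => hC1.mem_F i z) hβ
      have hW : IsW (cm g1 (ι i (swap a b))) := by
        by_contra hW
        exact hA (engine hH (cm_mem hH hN1 (hP1 i) _ hβ) hW i _ Slots.two_F_le hconf
          fun c hc => cm_pres (hP1 c) hc _)
      have hy : IsW (g1 * ι i (swap a b) * g1⁻¹) := by
        have := (wsub k m).mul_mem hW (isW_ι i (swap a b))
        simpa [cm, mem_wsub] using this
      refine isW_local (by omega) hy (o := E.f i (⟨0, E.s1⟩, 0))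
        (Slots.not_mem_F_of_tr (Slots.f_mem_tr _)) fun z hz => ?_
      by_contra hzi
      apply hz
      obtain ⟨u, rfl⟩ := g1.surjective z
      have hu : u i ∉ E.F i := fun h => hzi ((hC1.mem_F i u).2 h)
      simp only [Perm.mul_apply, Perm.inv_def, Equiv.symm_apply_apply]
      rw [ι_eq_iff_apply.2 (hβ _ hu)]
    let th : Pt k m → Fin m → Fin m := fun z f => g1 (Function.update z i f) i
    have hFF : ∀ z f, f ∈ E.F i → th z f ∈ E.F i := fun z f hf =>
      (hC1.mem_F i _).2 (by simpa using hf)
    have step : ∀ a b, a ∈ E.F i → b ∈ E.F i → a ≠ b → ∃ ψ : Perm (Fin m), ∀ z,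
        (∀ l, l ≠ i → g1 (Function.update z i a) l = g1 (Function.update z i b) l) ∧
        ψ (th z a) = th z b ∧
        ∀ f, f ≠ a → f ≠ b → ψ (th z f) = th z f := by
      intro a b ha hb hab
      obtain ⟨ψ, hψ⟩ := hψ a b ha hb hab
      have e : ∀ w, g1 (ι i (swap a b) w) = ι i ψ (g1 w) := fun w => by
        rw [← hψ]; simp
      refine ⟨ψ, fun z => ?_⟩
      have e1 := e (Function.update z i a)
      simp at e1
      refine ⟨fun l hl => ?_, ?_, fun f hfa hfb => ?_⟩
      · rw [e1]; simp [hl]
      · simp [th, e1]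
      · have e2 := congrFun (e (Function.update z i f)) i
        simpa [th, Equiv.swap_apply_of_ne_of_ne hfa hfb] using e2.symm
    have thinj : ∀ z, Set.InjOn (th z) (E.F i : Set (Fin m)) := by
      intro z a ha b hb e
      by_contra hab
      obtain ⟨ψ, hψ⟩ := step a b ha hb hab
      have : g1 (Function.update z i a) = g1 (Function.update z i b) := funext fun l => by
        rcases eq_or_ne l i with rfl | hl
        · exact e
        · exact (hψ z).1 l hl
      exact hab (by simpa using congrFun (g1.injective this) i)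
    have thsurj : ∀ z v, v ∈ E.F i → ∃ f ∈ E.F i, th z f = v := fun z v hv => by
      obtain ⟨f, hf, e⟩ := Finset.surj_on_of_inj_on_of_card_le (fun f (_ : f ∈ E.F i) => th z f)
        (fun f hf => hFF z f hf) (fun a b ha hb e => thinj z ha hb e) le_rfl v hv
      exact ⟨f, hf, e.symm⟩
    have pair : ∀ a b, a ∈ E.F i → b ∈ E.F i → a ≠ b → ∀ z z',
        th z' a = th z a ∨ th z' a = th z b := by
      intro a b ha hb hab z z'
      obtain ⟨ψ, hψ⟩ := step a b ha hb hab
      obtain ⟨f, hf, e⟩ := thsurj z _ (hFF z' a ha)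
      by_contra hcon
      simp only [not_or] at hcon
      have hfa : f ≠ a := fun h => hcon.1 (h ▸ e.symm)
      have hfb : f ≠ b := fun h => hcon.2 (h ▸ e.symm)
      have h1 := (hψ z).2.2 f hfa hfb
      rw [e] at h1
      have h2 := (hψ z').2.1
      rw [h1] at h2
      exact hab (thinj z' ha hb h2)
    have thconst : ∀ a, a ∈ E.F i → ∀ z z', th z' a = th z a := by
      intro a ha z z'
      have : 1 < ((E.F i).erase a).card := by
        rw [Finset.card_erase_of_mem ha]; omega
      obtain ⟨b, hb, c', hc', hbc⟩ := Finset.one_lt_card.1 this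
      simp only [Finset.mem_erase] at hb hc'
      rcases pair a b ha hb.2 hb.1.symm z z' with h | h
      · exact h
      rcases pair a c' ha hc'.2 hc'.1.symm z z' with h' | h'
      · exact h'
      exact absurd (thinj z hb.2 hc'.2 (h.symm.trans h')) hbc
    let z0 : Pt k m := fun _ => ⟨0, by omega⟩
    let θf : Fin m → Fin m := fun v => if v ∈ E.F i then th z0 v else v
    have θinj : Function.Injective θf := by
      intro v v' e
      by_cases hv : v ∈ E.F i <;> by_cases hv' : v' ∈ E.F i <;> simp [θf, hv, hv'] at e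
      · exact thinj z0 hv hv' e
      · exact absurd (e ▸ hFF z0 v hv) hv'
      · exact absurd (e.symm ▸ hFF z0 v' hv') hv
      · exact e
    refine ⟨Equiv.ofBijective θf θinj.bijective_of_finite,
      fun v hv => if_neg hv, fun _ z hz => ?_⟩
    have := thconst _ hz z0 z
    show g1 z i = θf (z i)
    simpa [θf, hz, th] using this
  choose θ hθfix hθval using hθ
  set g2 := g1 * (bas θ)⁻¹ with hg2
  have hN2 : Nrm H g2 := hN1.mul_w ((wsub k m).inv_mem (isW_bas θ))
  have hθinvfix : ∀ i v, v ∉ E.F i → (θ i)⁻¹ v = v := fun i v hv => by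
    rw [Perm.inv_def, Equiv.symm_apply_eq, hθfix i v hv]
  have hθF : ∀ i v, (θ i)⁻¹ v ∈ E.F i ↔ v ∈ E.F i := fun i v => by
    by_cases hv : v ∈ E.F i
    · refine iff_of_true ?_ hv
      by_contra h
      have := hθfix i _ h
      rw [← Perm.mul_apply, mul_inv_cancel, Perm.one_apply] at this
      exact h (this ▸ hv)
    · rw [hθinvfix i v hv]
  have hP2 : ∀ i, Pres E g2 i := by
    intro i
    refine ⟨fun z v hv => ?_, fun j => ?_⟩
    · simp only [hg2, Perm.mul_apply]
      rw [(hP1 i).val _ _ hv, bas_inv_apply]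
      constructor
      · intro e
        have : (θ i) v = z i := by rw [← e]; simp
        rw [← this, hθfix i v hv]
      · intro e; rw [e, hθinvfix i v hv]
    · refine ((hP1 i).com j).mul_left ?_
      refine Commute.inv_left ?_
      rw [ι_eq]
      refine Commute.map ?_ bas
      refine funext fun l => ?_
      rcases eq_or_ne l i with rfl | hl
      · simp only [Pi.mul_apply, Pi.mulSingle_eq_same]
        refine (Equiv.Perm.Disjoint.commute fun v => ?_).eq
        by_cases hv : v ∈ E.F l
        · exact Or.inr (Slots.σ_other fun h => Slots.not_mem_F_of_tr h hv)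
        · exact Or.inl (hθfix l v hv)
      · simp [hl]
  have hC2 : CommE E g2 := fun i j => (hP2 i).com j
  have hfix2 : ∀ i, 3 ≤ (E.F i).card → ∀ z, g2 z i = z i := by
    intro i h3 z
    by_cases hz : z i ∈ E.F i
    · obtain ⟨u, rfl⟩ := (bas θ).surjective z
      simp only [hg2, Perm.mul_apply, Perm.inv_def, Equiv.symm_apply_apply]
      refine hθval i h3 u ?_
      have := (hθF i (bas θ u i)).2 hz
      simpa using this
    · exact (hP2 i).eq_of hz
  suffices h : IsW g2 by
    have e : g = g2 * bas θ * bas τ := by simp [hg2, hg1]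
    rw [e, ← mem_wsub]
    exact mul_mem (mul_mem h (isW_bas θ)) (isW_bas τ)
  apply isW_of_conj hm
  intro i
  obtain ⟨f1, hf1, f2, hf2, h12⟩ := Finset.one_lt_card.1
    (show 1 < (E.F i).card from lt_of_lt_of_le one_lt_two Slots.two_le_F)
  refine ⟨f1, f2, h12, fun x hx1 hx2 => ?_⟩
  have hsign : sign (c3 f1 f2 x) = 1 := sign_c3 h12 hx2.symm
  have hmem : cm g2 (ι i (c3 f1 f2 x)) ∈ H :=
    mul_mem (hN2.ι_mem i hsign) (inv_mem (hH.ι_mem i hsign))
  have hpres : ∀ z, g2 z i ∈ ({f1, f2, x} : Finset (Fin m)) ↔ z i ∈ ({f1, f2, x} : Finset (Fin m)) := by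
    intro z
    by_cases h3 : 3 ≤ (E.F i).card
    · rw [hfix2 i h3 z]
    · have hF : E.F i = {f1, f2} := by
        symm
        apply Finset.eq_of_subset_of_card_le
        · intro v hv
          rcases Finset.mem_insert.1 hv with rfl | hv
          · exact hf1
          · rw [Finset.mem_singleton.1 hv]; exact hf2
        · rw [Finset.card_pair h12]; omega
      by_cases hz : z i ∈ E.F i
      · have := (hC2.mem_F i z).2 hz
        rw [hF] at hz this
        simp at hz this
        refine ⟨fun _ => ?_, fun _ => ?_⟩ <;> simp <;> tauto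
      · rw [(hP2 i).eq_of hz]
  have hW : IsW (cm g2 (ι i (c3 f1 f2 x))) := by
    by_contra hW
    refine hA (engine hH hmem hW i {f1, f2, x} ?_ (cm_conf_same hpres fun v hv => ?_)
      fun c hc => cm_pres (hP2 c) hc _)
    · have := Finset.card_le_three (a := f1) (b := f2) (c := x)
      omega
    · simp at hv
      exact c3_other hv.1 hv.2.1 hv.2.2
  have := (wsub k m).mul_mem hW (isW_ι i (c3 f1 f2 x))
  simpa [cm, mem_wsub] using this

end Cfsg.Agent.PA24
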