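import Cfsg.Agent.PA24.Engine

/-!
A 25-point computation: a rotation element and even base elements give a three cycle.
-/

set_option autoImplicit false

namespace Cfsg.Agent.PA24

open Equiv Equiv.Perm

def etaF (d : Fin 3) (p : Fin 5 × Fin 5) : Fin 5 × Fin 5 :=
  match p.1.val, p.2.val with
  | x, 3 => if h : x < 3 then (((⟨x, h⟩ : Fin 3) + d).castLE (by decide), p.2) else p
  | x, 4 => if h : x < 3 then (((⟨x, h⟩ : Fin 3) - d).castLE (by decide), p.2) else p
  | 3, y => if h : y < 3 then (p.1, ((⟨y, h⟩ : Fin 3) + d).castLE (by decide)) else p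
  | 4, y => if h : y < 3 then (p.1, ((⟨y, h⟩ : Fin 3) - d).castLE (by decide)) else p
  | _, _ => p

def eta0 : Perm (Fin 5 × Fin 5) where
  toFun := etaF 1
  invFun := etaF 2
  left_inv := by decide
  right_inv := by decide

def cU : Perm (Fin 5) where
  toFun := ![0, 1, 3, 2, 4]
  invFun := ![0, 1, 3, 2, 4]
  left_inv := by decide
  right_inv := by decide

def cV : Perm (Fin 5) where
  toFun := ![0, 3, 4, 2, 1]
  invFun := ![0, 4, 3, 1, 2]
  left_inv := by decide
  right_inv := by decide

def cV' : Perm (Fin 5) where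
  toFun := ![0, 2, 1, 4, 3]
  invFun := ![0, 2, 1, 4, 3]
  left_inv := by decide
  right_inv := by decide

def prod0 (u v : Perm (Fin 5)) : Perm (Fin 5 × Fin 5) := u.prodCongr v

def cword {G : Type*} [Group G] (e g g' : G) : G :=
  let q := (e * g * e⁻¹ * g⁻¹) ^ 7
  q * g' * q⁻¹ * g'⁻¹

theorem cword_map {G G' : Type*} [Group G] [Group G'] (φ : G →* G') (e g g' : G) :
    φ (cword e g g') = cword (φ e) (φ g) (φ g') := by
  simp [cword]

theorem cert0 : cword eta0 (prod0 cU cV) (prod0 1 cV') =
    c3 ((4, 0) : Fin 5 × Fin 5) (4, 3) (4, 4) := by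
  refine Equiv.ext ?_
  unfold cword
  decide +kernel

theorem sign_cUV : sign cU * sign cV = 1 := by decide +kernel

theorem sign_cV' : sign cV' = 1 := by decide +kernel

/-- on `Fin 2 → Fin 5` -/
theorem cert2 (η : Perm (Pt 2 5))
    (hη : ∀ y : Pt 2 5, (η y 0, η y 1) = etaF 1 (y 0, y 1)) :
    (cword η (bas ![cU, cV]) (bas ![1, cV'])).IsThreeCycle := by
  let e : Pt 2 5 ≃ Fin 5 × Fin 5 := finTwoArrowEquiv (Fin 5)
  have h1 : e.permCongrHom η = eta0 := Equiv.ext fun p => by
    show e (η (e.symm p)) = etaF 1 p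
    have := hη (e.symm p)
    simpa [e] using this
  have h2 : ∀ u v, e.permCongrHom (bas ![u, v]) = prod0 u v := fun u v => Equiv.ext fun p => by
    show e (bas ![u, v] (e.symm p)) = _
    simp [e, prod0]
    rfl
  have h3 := cword_map e.permCongrHom.toMonoidHom η (bas ![cU, cV]) (bas ![1, cV'])
  simp only [MulEquiv.coe_toMonoidHom, h1, h2, cert0] at h3
  have h4 : cword η (bas ![cU, cV]) (bas ![1, cV']) =
      c3 (e.symm (4, 0)) (e.symm (4, 3)) (e.symm (4, 4)) := by
    apply e.permCongrHom.injective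
    rw [h3]
    refine Equiv.ext fun p => ?_
    show _ = e (c3 (e.symm (4, 0)) (e.symm (4, 3)) (e.symm (4, 4)) (e.symm p))
    simp [c3, e.symm.injective.swap_apply]
  rw [h4]
  exact c3_isThreeCycle (e.symm.injective.ne (by decide)) (e.symm.injective.ne (by decide))
    (e.symm.injective.ne (by decide))

end Cfsg.Agent.PA24
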