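import Cfsg.Agent.PA24.Rot

/-!
An element of the normalising set commuting with the slot group rotates each slot constantly.
-/

set_option autoImplicit false

namespace Cfsg.Agent.PA24

open Equiv Equiv.Perm Finset
open scoped Fin.NatCast

variable {k m s : ℕ} {H : Subgroup (Perm (Pt k m))} {E : Slots k m s} {g : Perm (Pt k m)}

/-- flip of one triple -/
def tp (E : Slots k m s) (i : Fin k) (j : Fin s) : Perm (Fin m) :=
  swap (E.f i (j, 0)) (E.f i (j, 1))

theorem tp_f (i : Fin k) (j j' : Fin s) (a : Fin 3) :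
    tp E i j (E.f i (j', a)) = E.f i (j', if j' = j then 1 - a else a) := by
  by_cases h : j' = j
  · subst h
    simp only [if_true]
    fin_cases a
    · simp [tp]
    · simp [tp]
    · exact Equiv.swap_apply_of_ne_of_ne (Slots.fne (by decide)) (Slots.fne (by decide))
  · rw [if_neg h, tp, Equiv.swap_apply_of_ne_of_ne] <;>
      exact fun e => h (Prod.ext_iff.1 (E.inj i e)).1

theorem tp_F {i : Fin k} (j : Fin s) {v : Fin m} (hv : v ∈ E.F i) : tp E i j v = v :=
  Equiv.swap_apply_of_ne_of_ne (Ne.symm (Slots.mem_F.1 hv j 0)) (Ne.symm (Slots.mem_F.1 hv j 1))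

theorem sign_tp (i : Fin k) (j : Fin s) : sign (tp E i j) = -1 :=
  sign_swap (Slots.fne (by decide))

/-- flip two slots -/
def fl2 (E : Slots k m s) (c d : Fin k) (j j' : Fin s) : Fin k → Perm (Fin m) :=
  Pi.mulSingle c (tp E c j) * Pi.mulSingle d (tp E d j')

def ep2 (c d : Fin k) (j j' : Fin s) (i : Fin k) (l : Fin s) : Bool :=
  decide ((i, l) = (c, j) ∨ (i, l) = (d, j'))

theorem fl2_flips {c d : Fin k} {j j' : Fin s} (hne : (c, j) ≠ (d, j')) :
    Flips E (fl2 E c d j j') (ep2 c d j j') := by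
  intro i l a
  simp only [fl2, Pi.mul_apply, Perm.mul_apply, ep2]
  rcases eq_or_ne i d with rfl | hd
  · rw [Pi.mulSingle_eq_same, tp_f]
    rcases eq_or_ne i c with rfl | hc
    · have hjj : j ≠ j' := fun e => hne (by rw [e])
      rw [Pi.mulSingle_eq_same, tp_f]
      by_cases h1 : l = j <;> by_cases h2 : l = j' <;> simp_all
    · simp [hc]
  · rw [Pi.mulSingle_eq_of_ne hd, Perm.one_apply]
    rcases eq_or_ne i c with rfl | hc
    · rw [Pi.mulSingle_eq_same, tp_f]; simp [hd]
    · simp [hc, hd]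

theorem fl2_F (c d : Fin k) (j j' : Fin s) {i : Fin k} {v : Fin m} (hv : v ∈ E.F i) :
    fl2 E c d j j' i v = v := by
  simp only [fl2, Pi.mul_apply, Perm.mul_apply]
  rcases eq_or_ne i d with rfl | hd <;> rcases eq_or_ne i c with rfl | hc <;>
    simp_all [tp_F]

theorem fl2_evB (c d : Fin k) (j j' : Fin s) : EvB (fl2 E c d j j') :=
  evB_pair (by rw [sign_tp, sign_tp]; rfl)

theorem fin3_flip : ∀ a q : Fin 3, 1 - (a + q) + -q = 1 - a + q := by decide

theorem bas_inv_apply (ν : Fin k → Perm (Fin m)) (z : Pt k m) (i : Fin k) :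
    (bas ν)⁻¹ z i = (ν i)⁻¹ (z i) := rfl

theorem cls_flip {ν : Fin k → Perm (Fin m)} {ε : Fin k → Fin s → Bool} (hν : Flips E ν ε)
    (hF : ∀ i v, v ∈ E.F i → ν i v = v) (z : Pt k m) : Cls E z (bas ν z) := fun i => by
  by_cases hz : z i ∈ E.F i
  · left; simp [hF i _ hz]
  · obtain ⟨j, hj⟩ := Slots.not_mem_F.1 hz
    obtain ⟨a, ha⟩ := Slots.mem_tr.1 hj
    exact Or.inr ⟨j, hj, by rw [bas_apply, ← ha, hν i j]; exact Slots.f_mem_tr _⟩

/-- the commutator of `g` with a flip -/
theorem isRot_comm {ν : Fin k → Perm (Fin m)} {ε : Fin k → Fin s → Bool} (hg : CommE E g)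
    (hν : Flips E ν ε) (hF : ∀ i v, v ∈ E.F i → ν i v = v) :
    IsRot E (g * bas ν * g⁻¹ * (bas ν)⁻¹)
      (fun i y => if ∃ j, y i ∈ E.tr i j ∧ ε i j = true then rot E g⁻¹ i y else 0) := by
  refine ⟨fun i z w hzw => ?_, fun y i => ?_⟩
  · simp only [hzw.mem_tr]
    split
    · rename_i hh
      obtain ⟨j, hj, -⟩ := hh
      exact ((hg.inv.cls hzw).2.1 i (Slots.not_mem_F_of_tr (hzw.mem_tr.2 hj))).symm
    · rfl
  · obtain ⟨w, rfl⟩ := (bas ν).surjective y
    obtain ⟨u, rfl⟩ := g.surjective w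
    have hwy : Cls E (g u) (bas ν (g u)) := cls_flip hν hF _
    have hcu : Cls E u (bas ν u) := cls_flip hν hF u
    have hlhs : (g * bas ν * g⁻¹ * (bas ν)⁻¹) (bas ν (g u)) = g (bas ν u) := by simp
    rw [hlhs]
    by_cases hwi : g u i ∈ E.F i
    · have e1 : bas ν (g u) i = g u i := by simp [hF i _ hwi]
      have hui : u i ∈ E.F i := (hg.mem_F i u).1 hwi
      rw [e1, sh_F _ hwi, ← (hg.cls hcu).2.2 i (by simp [hF i _ hui])]
    · have hui : u i ∉ E.F i := fun h => hwi ((hg.mem_F i u).2 h)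
      obtain ⟨j, hj⟩ := Slots.not_mem_F.1 hui
      obtain ⟨a, ha⟩ := Slots.mem_tr.1 hj
      beta_reduce
      rw [hg.apply_rot (hcu.not_mem_F.1 hui), (hg.cls hcu).2.1 i hui,
        (hg.inv.cls hwy).2.1 i hwi, rot_inv hg hwi, bas_apply, bas_apply, hg.apply_rot hui,
        ← ha, sh_f, hν i j, hν i j, sh_f, sh_f]
      have hiff : (∃ j', E.f i (j, if ε i j then 1 - (a + rot E g i u) else a + rot E g i u)
          ∈ E.tr i j' ∧ ε i j' = true) ↔ ε i j = true :=
        ⟨fun ⟨j', h1, h2⟩ => Slots.tr_disj (Slots.f_mem_tr _) h1 ▸ h2,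
          fun h2 => ⟨j, Slots.f_mem_tr _, h2⟩⟩
      by_cases hε : ε i j = true
      · simp only [if_pos hε] at hiff ⊢
        rw [if_pos (hiff.2 hε), fin3_flip]
      · simp only [if_neg hε] at hiff ⊢
        rw [if_neg (fun h' => hε (hiff.1 h')), add_zero]

theorem isRot_const (E : Slots k m s) (hs : s = 1) (a : Fin k → Fin 3) :
    IsRot E (bas (fun i => E.σ i ⟨0, E.s1⟩ ^ (a i).val)) (fun i _ => a i) := by
  refine ⟨fun _ _ _ _ => rfl, fun y i => ?_⟩
  simp only [bas_apply]
  by_cases hy : y i ∈ E.F i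
  · rw [sh_F _ hy]
    exact Function.IsFixedPt.perm_pow (Slots.σ_other fun h => Slots.not_mem_F_of_tr h hy) _
  · obtain ⟨j, hj⟩ := Slots.not_mem_F.1 hy
    have : j = ⟨0, E.s1⟩ := Fin.ext (by have := j.isLt; simp; omega)
    subst this
    exact (sh_eq_pow _ hj).symm

theorem fin3_two : ∀ q : Fin 3, q + q = 0 → q = 0 := by decide

theorem fin3_double : ∀ q q' : Fin 3, q + q = q' + q' → q = q' := by decide

def c53 (x : Fin 3) : Fin 5 := x.castLE (by decide)

/-- the standard rotation of one coordinate -/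
def st5 (v w : Fin 5) : Fin 5 :=
  if h : v.val < 3 then
    if w = 3 then c53 (⟨v, h⟩ + 1) else if w = 4 then c53 (⟨v, h⟩ - 1) else v
  else v

theorem etaF_st : ∀ v w, etaF 1 (v, w) = (st5 v w, st5 w v) := by decide

theorem fin5_cases : ∀ v : Fin 5, (∃ x, v = c53 x) ∨ v = 3 ∨ v = 4 := by decide

theorem st5_cases : (∀ x z, st5 (c53 x) (c53 z) = c53 x) ∧ (∀ x, st5 (c53 x) 3 = c53 (x + 1)) ∧
    (∀ x, st5 (c53 x) 4 = c53 (x - 1)) ∧ (∀ w, st5 3 w = 3) ∧ (∀ w, st5 4 w = 4) := by decide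

theorem fin3_affine : ∀ x q : Fin 3, (x + 1) * q = x * q + q ∧ (x - 1) * q = x * q + - q := by
  decide

theorem fin2_or {i o : Fin 2} (h : i ≠ o) : ∀ l, l = i ∨ l = o := by revert i o; decide

theorem fin2_ne_succ : ∀ c : Fin 2, c ≠ c + 1 := by decide

theorem fin2_succ_succ : ∀ c : Fin 2, c + 1 + 1 = c := by decide

theorem fin3_cancel : ∀ x z q : Fin 3, q ≠ 0 → x * q = z * q → x = z := by decide

/-- the certificate case: two slots, two leftover points each -/
theorem alt_of_cert {H : Subgroup (Perm (Pt 2 5))} (hH : Hyp H) (E : Slots 2 5 1)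
    {η : Perm (Pt 2 5)} (hη : η ∈ H) {r : Fin 2 → Pt 2 5 → Fin 3} (hr : IsRot E η r)
    (g1 g2 : Fin 2 → Fin 5) (hgF : ∀ i, g1 i ∈ E.F i ∧ g2 i ∈ E.F i ∧ g1 i ≠ g2 i)
    (A : Fin 2 → Fin 3) (hA : ∀ i, A i ≠ 0)
    (h : ∀ i o, i ≠ o → ∀ y, y i ∉ E.F i → (y o ∉ E.F o → r i y = 0) ∧
      (y o = g1 o → r i y = A i) ∧ (y o = g2 o → r i y = - A i)) :
    alternatingGroup (Pt 2 5) ≤ H := by
  classical
  let P : Fin 2 → Fin 5 → Fin 5 := fun i v =>
    if h : v.val < 3 then E.f i (0, (⟨v, h⟩ : Fin 3) * A i) else if v = 3 then g1 i else g2 i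
  have P0 : ∀ i x, P i (c53 x) = E.f i (0, x * A i) := fun i x => by
    simp [P, c53, x.isLt]
  have P3 : ∀ i, P i 3 = g1 i := fun i => by simp [P]
  have P4 : ∀ i, P i 4 = g2 i := fun i => by simp [P]
  have PF : ∀ i x, P i (c53 x) ∉ E.F i := fun i x => by
    rw [P0]; exact Slots.not_mem_F_of_tr (Slots.f_mem_tr _)
  have hPinj : ∀ i, Function.Injective (P i) := by
    intro i a b e
    obtain ⟨hg1, hg2, hg12⟩ := hgF i
    rcases fin5_cases a with ⟨x, rfl⟩ | rfl | rfl <;>
      rcases fin5_cases b with ⟨z, rfl⟩ | rfl | rfl <;>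
        simp only [P0, P3, P4] at e <;>
        first
          | rfl
          | exact absurd e hg12
          | exact absurd e.symm hg12
          | exact absurd e (Slots.mem_F.1 hg1 _ _)
          | exact absurd e (Slots.mem_F.1 hg2 _ _)
          | exact absurd e.symm (Slots.mem_F.1 hg1 _ _)
          | exact absurd e.symm (Slots.mem_F.1 hg2 _ _)
          | rw [fin3_cancel x z _ (hA i) (Prod.ext_iff.1 (E.inj i e)).2]
  let ρ : Fin 2 → Perm (Fin 5) := fun i => Equiv.ofBijective _ (hPinj i).bijective_of_finite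
  have hρ : ∀ i v, ρ i v = P i v := fun _ _ => rfl
  obtain ⟨s00, s03, s04, s3, s4⟩ := st5_cases
  have key : ∀ i o, i ≠ o → ∀ y : Pt 2 5,
      ((bas ρ)⁻¹ * η * bas ρ) y i = st5 (y i) (y o) := by
    intro i o hio y
    suffices hv : η (bas ρ y) i = ρ i (st5 (y i) (y o)) by
      rw [← map_inv]
      simp only [Perm.mul_apply, bas_apply, Pi.inv_apply, hv]
      simp
    rw [hr.2, bas_apply, hρ, hρ]
    rcases fin5_cases (y i) with ⟨x, hx⟩ | hx | hx <;> rw [hx]
    · obtain ⟨ha, hb, hc⟩ := h i o hio (bas ρ y) (by rw [bas_apply, hρ, hx]; exact PF i x)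
      rcases fin5_cases (y o) with ⟨z, hz⟩ | hz | hz <;> rw [hz]
      · rw [ha (by rw [bas_apply, hρ, hz]; exact PF o z), sh_zero, s00]
      · rw [hb (by rw [bas_apply, hρ, hz, P3]), s03, P0, P0, sh_f, (fin3_affine x _).1]
      · rw [hc (by rw [bas_apply, hρ, hz, P4]), s04, P0, P0, sh_f, (fin3_affine x _).2]
    · rw [s3, sh_F _ (by rw [P3]; exact (hgF i).1)]
    · rw [s4, sh_F _ (by rw [P4]; exact (hgF i).2.1)]
  have h3 := cert2 _ (fun y => by rw [key 0 1 (by decide), key 1 0 (by decide), etaF_st])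
  have hconj : ∀ τ, EvB τ → bas ρ * bas τ * (bas ρ)⁻¹ ∈ H := fun τ hτ => by
    have := we_conj_bas 1 ρ τ
    rw [← bas_eq] at this
    rw [this]
    exact hH.base _ (evB_conj hτ 1 ρ)
  let φ := (MulAut.conj (bas ρ : Perm (Pt 2 5))).toMonoidHom
  refine alt_of_threeCycle hH (g := φ (cword ((bas ρ)⁻¹ * η * bas ρ) (bas ![cU, cV])
    (bas ![1, cV']))) ?_ ?_
  · rw [cword_map]
    have e : φ ((bas ρ)⁻¹ * η * bas ρ) = η := by simp [φ, MulAut.conj_apply, mul_assoc]
    have hu : φ (bas ![cU, cV]) ∈ H := hconj _ (by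
      simp only [EvB, Fin.prod_univ_two]
      simpa using sign_cUV)
    have hv : φ (bas ![1, cV']) ∈ H := hconj _ (by
      simp only [EvB, Fin.prod_univ_two]
      simpa using sign_cV')
    rw [e]
    unfold cword
    have hq := pow_mem (mul_mem (mul_mem (mul_mem hη hu) (inv_mem hη)) (inv_mem hu)) 7
    exact mul_mem (mul_mem (mul_mem hq hv) (inv_mem hq)) (inv_mem hv)
  · show (bas ρ * _ * (bas ρ)⁻¹).IsThreeCycle
    rw [IsThreeCycle, cycleType_conj]
    exact h3

theorem slots_rigid (hH : Hyp H) (hA : ¬ alternatingGroup (Pt k m) ≤ H) (hg : CommE E g)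
    (hN : Nrm H g) : ∀ (c : Fin k) (j : Fin s) (y w : Pt k m), y c ∈ E.tr c j →
    w c ∈ E.tr c j → rot E g⁻¹ c y = rot E g⁻¹ c w := by
  classical
  have mk : ∀ (c d : Fin k) (j j' : Fin s), (c, j) ≠ (d, j') →
      g * bas (fl2 E c d j j') * g⁻¹ * (bas (fl2 E c d j j'))⁻¹ ∈ H ∧
      IsRot E (g * bas (fl2 E c d j j') * g⁻¹ * (bas (fl2 E c d j j'))⁻¹)
        (fun i y => if ∃ l, y i ∈ E.tr i l ∧ ep2 c d j j' i l = true
          then rot E g⁻¹ i y else 0) := fun c d j j' hne =>
    ⟨mul_mem (hN _ (fl2_evB ..)) (inv_mem (hH.base _ (fl2_evB ..))),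
      isRot_comm hg (fl2_flips hne) (fun _ _ h => fl2_F _ _ _ _ h)⟩
  have hiff : ∀ {c d : Fin k} {j j' : Fin s} {y : Pt k m} {i : Fin k} {l : Fin s},
      y i ∈ E.tr i l → ((∃ l', y i ∈ E.tr i l' ∧ ep2 c d j j' i l' = true) ↔
        ((i, l) = (c, j) ∨ (i, l) = (d, j'))) := fun {c d j j' y i l} hl =>
    ⟨fun ⟨l', h1, h2⟩ => by
      rw [← Slots.tr_disj h1 hl]; simpa [ep2] using h2,
     fun h => ⟨l, hl, by simpa [ep2] using h⟩⟩
  intro c j y w hy hw
  by_cases h3 : ∃ p q : Fin k × Fin s, p ≠ (c, j) ∧ q ≠ (c, j) ∧ p ≠ q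
  · obtain ⟨⟨a, l⟩, ⟨e, l'⟩, hp, hq, hpq⟩ := h3
    obtain ⟨hη, hr⟩ := mk a c l j hp
    have hν := fl2_flips (E := E) hpq
    have hb : bas (fl2 E a e l l') ∈ H := hH.base _ (fl2_evB ..)
    have hcl : ∀ y, Cls E ((bas (fl2 E a e l l'))⁻¹ y) y := fun y => by
      have := cls_flip hν (fun _ _ h => fl2_F _ _ _ _ h) ((bas (fl2 E a e l l'))⁻¹ y)
      simpa using this
    have hr' := hr.mul (hr.conj hν)
    have key := rot_single hH hA (mul_mem hη (mul_mem (mul_mem hb hη) (inv_mem hb))) hr' c j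
      ?_ y w hy hw
    · have hval : ∀ y : Pt k m, y c ∈ E.tr c j →
          rot E g⁻¹ c ((bas (fl2 E a e l l'))⁻¹ y) = rot E g⁻¹ c y := fun y hy =>
        ((hg.inv.cls (hcl y)).2.1 c (Slots.not_mem_F_of_tr ((hcl y).mem_tr.2 hy))).symm
      simp only [hiff hy, hiff hw, hiff ((hcl y).mem_tr.2 hy), hiff ((hcl w).mem_tr.2 hw),
        hval y hy, hval w hw, or_true, if_true, hp.symm, hq.symm, or_self, if_false] at key
      exact fin3_double _ _ key
    · intro i z hzi hn
      obtain ⟨o, ho⟩ := Slots.not_mem_F.1 hzi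
      have hio : (i, o) ≠ (c, j) := fun h' => by
        simp only [Prod.mk.injEq] at h'
        exact hn ⟨h'.1, h'.2 ▸ ho⟩
      simp only [hiff ho, hiff ((hcl z).mem_tr.2 ho), hio, or_false]
      by_cases hia : (i, o) = (a, l)
      · simp only [hia, true_or, if_true]
        rw [(hg.inv.cls (hcl z)).2.1 i (Slots.not_mem_F_of_tr ((hcl z).mem_tr.2 ho))]
        abel
      · simp [hia]
  · -- exactly two slots
    have hcard : k * s ≤ 2 := by
      by_contra hcon
      apply h3
      have : 1 < ((Finset.univ : Finset (Fin k × Fin s)).erase (c, j)).card := by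
        simp [Finset.card_erase_of_mem]; omega
      obtain ⟨p, hp, q, hq, hpq⟩ := Finset.one_lt_card.1 this
      exact ⟨p, q, by simpa using hp, by simpa using hq, hpq⟩
    have hk := hH.hk
    have hs1 := E.s1
    obtain rfl : k = 2 := by
      have := Nat.mul_le_mul_left k hs1
      omega
    obtain rfl : s = 1 := by omega
    obtain ⟨hη, hr0⟩ := mk 0 1 0 0 (by simp)
    let y0 : Pt 2 m := fun i => E.f i (0, 0)
    have hslot : ∀ {i : Fin 2} {v : Fin m}, v ∉ E.F i → v ∈ E.tr i 0 := fun {i v} h => by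
      obtain ⟨l, hl⟩ := Slots.not_mem_F.1 h
      rwa [Subsingleton.elim l 0] at hl
    let cc : Fin 2 → Fin 3 := fun i => - rot E g⁻¹ i y0
    have hbc : bas (fun i => E.σ i ⟨0, E.s1⟩ ^ (cc i).val) ∈ H :=
      hH.base _ (Finset.prod_eq_one fun i _ => by rw [map_pow, Slots.σ_sign, one_pow])
    have hη' := mul_mem hη hbc
    have hr := hr0.mul (isRot_const E rfl cc)
    set η' := g * bas (fl2 E 0 1 0 0) * g⁻¹ * (bas (fl2 E 0 1 0 0))⁻¹ *
      bas (fun i => E.σ i ⟨0, E.s1⟩ ^ (cc i).val) with hηdef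
    let R : Fin 2 → Pt 2 m → Fin 3 := fun i y => rot E g⁻¹ i y - rot E g⁻¹ i y0
    have hep : ∀ (i : Fin 2) (y : Pt 2 m), y i ∈ E.tr i 0 →
        ∃ l, y i ∈ E.tr i l ∧ ep2 0 1 0 0 i l = true := fun i y h =>
      ⟨0, h, by fin_cases i <;> rfl⟩
    have hR : ∀ i y, y i ∈ E.tr i 0 →
        (cc i + if ∃ l, y i ∈ E.tr i l ∧ ep2 0 1 0 0 i l = true then rot E g⁻¹ i y else 0)
          = R i y := by
      intro i y h
      rw [if_pos (hep i y h)]; simp [cc, R]; abel
    have hRc : ∀ i (y z : Pt 2 m), y i ∈ E.tr i 0 → Cls E y z → R i z = R i y :=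
      fun i y z h hyz => by
        simp [R, (hg.inv.cls hyz).2.1 i (Slots.not_mem_F_of_tr h)]
    have hR0 : ∀ i o : Fin 2, i ≠ o → ∀ y : Pt 2 m, y i ∈ E.tr i 0 → y o ∉ E.F o →
        R i y = 0 := by
      intro i o hio y h h'
      have hc : Cls E y0 y := fun l => by
        have : l = i ∨ l = o := fin2_or hio l
        rcases this with rfl | rfl
        · exact Or.inr ⟨0, Slots.f_mem_tr _, h⟩
        · exact Or.inr ⟨0, Slots.f_mem_tr _, hslot h'⟩
      rw [hRc i y0 y (Slots.f_mem_tr _) hc]; simp [R]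
    -- the slot at `d` with two leftover values swapped at `e`
    have hsum : ∀ e d : Fin 2, e ≠ d → ∀ f f', f ∈ E.F e → f' ∈ E.F e → f ≠ f' →
        ∀ y, y d ∈ E.tr d 0 → R d y + R d (Function.update y e (swap f f' (y e))) = 0 := by
      intro e d hed f f' hf hf' hff y hy
      by_cases hye : y e ∈ E.F e
      swap
      · have e1 : swap f f' (y e) = y e := Equiv.swap_apply_of_ne_of_ne
          (fun h => hye (h ▸ hf)) (fun h => hye (h ▸ hf'))
        rw [e1, Function.update_eq_self, hR0 d e hed.symm y hy hye, add_zero]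
      let ν : Fin 2 → Perm (Fin m) := Pi.mulSingle e (tp E e 0 * swap f f')
      let ε : Fin 2 → Fin 1 → Bool := fun i _ => decide (i = e)
      have hsw : ∀ a, swap f f' (E.f e (0, a)) = E.f e (0, a) := fun a =>
        Equiv.swap_apply_of_ne_of_ne (Slots.mem_F.1 hf 0 a) (Slots.mem_F.1 hf' 0 a)
      have hν : Flips E ν ε := by
        intro i l a
        obtain rfl : l = 0 := Subsingleton.elim _ _
        rcases eq_or_ne i e with rfl | hi
        · simp [ν, ε, hsw, tp_f]
        · simp [ν, ε, hi]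
      have hb : bas ν ∈ H := hH.base _ (evB_single (by
        rw [map_mul, sign_tp, sign_swap hff]; rfl))
      have hζ := rot_single hH hA (mul_mem hη' (mul_mem (mul_mem hb hη') (inv_mem hb)))
        (hr.mul (hr.conj hν)) d 0 ?_ y y0 hy (Slots.f_mem_tr _)
      · have hεd : ¬ ∃ j, y d ∈ E.tr d j ∧ ε d j = true := by simp [ε, hed.symm]
        have hεd0 : ¬ ∃ j, y0 d ∈ E.tr d j ∧ ε d j = true := by simp [ε, hed.symm]
        have ev : ∀ z : Pt 2 m, ((bas ν)⁻¹ z) d = z d := fun z => by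
          rw [bas_inv_apply]; simp [ν, hed.symm]
        have hR1 := hR d y hy
        have hR2 := hR d ((bas ν)⁻¹ y) (by rw [ev]; exact hy)
        have hR3 := hR d y0 (Slots.f_mem_tr _)
        have hR4 := hR d ((bas ν)⁻¹ y0) (by rw [ev]; exact Slots.f_mem_tr _)
        simp only [if_neg hεd, if_neg hεd0, hR1, hR2, hR3, hR4] at hζ
        have hy' : (bas ν)⁻¹ y = Function.update y e (swap f f' (y e)) := funext fun l => by
          rw [bas_inv_apply]
          rcases eq_or_ne l e with rfl | hl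
          · simp only [Function.update_self, ν, Pi.mulSingle_eq_same,
              mul_inv_rev, Equiv.swap_inv, Perm.mul_apply]
            rw [show (tp E l 0)⁻¹ = tp E l 0 from Equiv.swap_inv _ _, tp_F 0 hye]
          · simp [ν, hl]
        have h0 : R d ((bas ν)⁻¹ y0) = 0 := by
          refine hR0 d e hed.symm _ (by rw [ev]; exact Slots.f_mem_tr _) ?_
          rw [bas_inv_apply]
          simp only [ν, Pi.mulSingle_eq_same, mul_inv_rev,
            Equiv.swap_inv, Perm.mul_apply, y0]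
          rw [show (tp E e 0)⁻¹ = tp E e 0 from Equiv.swap_inv _ _, tp_f, hsw]
          exact Slots.not_mem_F_of_tr (Slots.f_mem_tr _)
        rw [hy', h0, show R d y0 = 0 by simp [R]] at hζ
        rw [add_comm]; simpa using hζ
      · intro i z hzi hn
        have hi : i = e := by
          have : i ≠ d := fun h => hn ⟨h, hslot hzi⟩
          exact (fin2_or hed i).resolve_right this
        subst hi
        have hz' : (bas ν)⁻¹ z i ∈ E.tr i 0 := by
          obtain ⟨a, ha⟩ := Slots.mem_tr.1 (hslot hzi)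
          rw [bas_inv_apply]
          simp only [ν, Pi.mulSingle_eq_same, mul_inv_rev,
            Equiv.swap_inv, Perm.mul_apply]
          rw [show (tp E i 0)⁻¹ = tp E i 0 from Equiv.swap_inv _ _, ← ha, tp_f, hsw]
          exact Slots.f_mem_tr _
        simp only [hR i z (hslot hzi), hR i _ hz']
        rw [if_pos ⟨0, hslot hzi, by simp [ε]⟩]
        have hc : Cls E ((bas ν)⁻¹ z) z := fun l => by
          rcases eq_or_ne l i with rfl | hl
          · exact Or.inr ⟨0, hz', hslot hzi⟩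
          · left; rw [bas_inv_apply]; simp [ν, hl]
        rw [hRc i _ z hz' hc]; abel
    suffices hz : ∀ d e : Fin 2, d ≠ e → ∀ y, y d ∈ E.tr d 0 → R d y = 0 by
      obtain rfl : j = 0 := Subsingleton.elim _ _
      have hne : c ≠ c + 1 := fin2_ne_succ c
      have h1 := hz c _ hne y hy
      have h2 := hz c _ hne w hw
      simp only [R, sub_eq_zero] at h1 h2
      rw [h1, h2]
    by_cases hF3 : 3 ≤ m - 3
    · intro d e hde y hy
      by_cases hye : y e ∈ E.F e
      swap
      · exact hR0 d e hde y hy hye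
      have : 1 < ((E.F e).erase (y e)).card := by
        rw [Finset.card_erase_of_mem hye, Slots.card_F]; omega
      obtain ⟨f, hf, f', hf', hff⟩ := Finset.one_lt_card.1 this
      simp only [Finset.mem_erase] at hf hf'
      have := hsum e d hde.symm f f' hf.2 hf'.2 hff y hy
      rw [Equiv.swap_apply_of_ne_of_ne hf.1.symm hf'.1.symm, Function.update_eq_self] at this
      exact fin3_two _ this
    obtain rfl : m = 5 := by have := hH.hm; omega
    have hF2 : ∀ i, (E.F i).card = 2 := fun i => Slots.card_F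
    choose g1 g2 hg12 hFeq using fun i => Finset.card_eq_two.1 (hF2 i)
    have hgF : ∀ i, g1 i ∈ E.F i ∧ g2 i ∈ E.F i ∧ g1 i ≠ g2 i := fun i =>
      ⟨by simp [hFeq i], by simp [hFeq i], hg12 i⟩
    let A : Fin 2 → Fin 3 := fun i => R i (Function.update y0 (i + 1) (g1 (i + 1)))
    have hoth : ∀ i o : Fin 2, i ≠ o → o = i + 1 := by decide
    have hA1 : ∀ i o, i ≠ o → ∀ y : Pt 2 5, y i ∈ E.tr i 0 →
        (y o = g1 o → R i y = A i) ∧ (y o = g2 o → R i y = - A i) := by
      intro i o hio y hy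
      have ho := hoth i o hio
      have hu : Function.update y0 o (g1 o) i ∈ E.tr i 0 := by
        simp [hio, y0]; exact Slots.f_mem_tr _
      have hcl : ∀ v, y o = v → Cls E y (Function.update y0 o v) := fun v hv l => by
        rcases eq_or_ne l o with rfl | hl
        · left; simp [hv]
        · have : l = i := (fin2_or hio l).resolve_right hl
          subst this
          refine Or.inr ⟨0, hy, ?_⟩
          simp [hio, y0]; exact Slots.f_mem_tr _
      refine ⟨fun h => ?_, fun h => ?_⟩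
      · rw [← hRc i y _ hy (hcl _ h)]; simp [A, ho]
      · rw [← hRc i y _ hy (hcl _ h)]
        have := hsum o i hio.symm (g1 o) (g2 o) (hgF o).1 (hgF o).2.1 (hgF o).2.2 _ hu
        simp at this
        rw [eq_neg_iff_add_eq_zero, add_comm]
        simpa [A, ho] using this
    have hA0 : ∀ i, A i = 0 → A (i + 1) = 0 := by
      intro i hi
      have hio : i ≠ i + 1 := fin2_ne_succ i
      have key := rot_single hH hA hη' hr (i + 1) 0 ?_ (Function.update y0 i (g1 i)) y0
        (by simp [hio.symm, y0]; exact Slots.f_mem_tr _) (Slots.f_mem_tr _)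
      · have e1 := hR (i + 1) (Function.update y0 i (g1 i))
          (by simp [hio.symm, y0]; exact Slots.f_mem_tr _)
        have e2 := hR (i + 1) y0 (Slots.f_mem_tr _)
        simp only [e1, e2] at key
        have e3 : i + 1 + 1 = i := fin2_succ_succ i
        simp [A, e3, key, R]
      · intro l z hzl hn
        have hl : l = i := by
          have : l ≠ i + 1 := fun h => hn ⟨h, hslot hzl⟩
          exact (fin2_or hio l).resolve_right this
        subst hl
        rw [hR l z (hslot hzl)]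
        by_cases hzo : z (l + 1) ∈ E.F (l + 1)
        · obtain ⟨ha, hb⟩ := hA1 l _ hio z (hslot hzl)
          rw [hFeq] at hzo
          simp at hzo
          rcases hzo with h | h
          · rw [ha h, hi]
          · rw [hb h, hi]; rfl
        · exact hR0 l _ hio z (hslot hzl) hzo
    by_cases hnz : ∀ i, A i ≠ 0
    · exfalso
      refine hA (alt_of_cert hH E hη' hr g1 g2 hgF A hnz fun i o hio y hy => ?_)
      rw [hR i y (hslot hy)]
      exact ⟨hR0 i o hio y (hslot hy), (hA1 i o hio y (hslot hy)).1,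
        (hA1 i o hio y (hslot hy)).2⟩
    · simp only [not_forall, not_not] at hnz
      obtain ⟨i, hi⟩ := hnz
      have hall : ∀ l, A l = 0 := fun l => by
        rcases eq_or_ne i l with rfl | hl
        · exact hi
        · rw [hoth i l hl]; exact hA0 i hi
      intro d e hde y hy
      by_cases hye : y e ∈ E.F e
      swap
      · exact hR0 d e hde y hy hye
      obtain ⟨ha, hb⟩ := hA1 d e hde y hy
      rw [hFeq] at hye
      simp at hye
      rcases hye with h | h
      · rw [ha h, hall]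
      · rw [hb h, hall]; rfl

end Cfsg.Agent.PA24
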