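import Cfsg.Agent.PA24.Box

/-!
Slot families and the confinement engine.
-/

set_option autoImplicit false

namespace Cfsg.Agent.PA24

open Equiv Equiv.Perm Finset
open scoped Fin.NatCast

variable {k m s : ℕ} {H : Subgroup (Perm (Pt k m))}

/-- per coordinate `s` disjoint triples -/
structure Slots (k m s : ℕ) where
  f : Fin k → Fin s × Fin 3 → Fin m
  inj : ∀ i, Function.Injective (f i)
  s1 : 1 ≤ s
  lo : 3 * s + 2 ≤ m
  hi : m ≤ 3 * s + 4

theorem fin3_succ_ne : ∀ a : Fin 3, a + 1 ≠ a := by decide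

namespace Slots

variable (E : Slots k m s)

def σ (i : Fin k) (j : Fin s) : Perm (Fin m) := c3 (E.f i (j, 0)) (E.f i (j, 1)) (E.f i (j, 2))

def tr (i : Fin k) (j : Fin s) : Finset (Fin m) :=
  Finset.univ.image fun a : Fin 3 => E.f i (j, a)

def F (i : Fin k) : Finset (Fin m) := (Finset.univ.image (E.f i))ᶜ

variable {E} {i : Fin k} {j j' : Fin s} {v : Fin m}

theorem mem_tr : v ∈ E.tr i j ↔ ∃ a, E.f i (j, a) = v := by simp [tr]

theorem f_mem_tr (a : Fin 3) : E.f i (j, a) ∈ E.tr i j := mem_tr.2 ⟨a, rfl⟩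

theorem mem_F : v ∈ E.F i ↔ ∀ j a, E.f i (j, a) ≠ v := by simp [F, Prod.forall]

theorem not_mem_F : v ∉ E.F i ↔ ∃ j, v ∈ E.tr i j := by simp [mem_F, mem_tr]

theorem not_mem_F_of_tr (h : v ∈ E.tr i j) : v ∉ E.F i := not_mem_F.2 ⟨j, h⟩

theorem tr_disj (h : v ∈ E.tr i j) (h' : v ∈ E.tr i j') : j = j' := by
  obtain ⟨a, rfl⟩ := mem_tr.1 h
  obtain ⟨b, hb⟩ := mem_tr.1 h'
  exact ((Prod.ext_iff.1 (E.inj i hb)).1).symm

theorem card_F : (E.F i).card = m - 3 * s := by
  rw [F, Finset.card_compl, Finset.card_image_of_injective _ (E.inj i)]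
  simp [mul_comm]

theorem two_le_F : 2 ≤ (E.F i).card := by
  have := E.lo; rw [card_F]; omega

theorem two_F_le : 2 * (E.F i).card ≤ m + 1 := by
  have := E.lo; have := E.hi; have := E.s1; rw [card_F]; omega

theorem fne {a b : Fin 3} (h : a ≠ b) : E.f i (j, a) ≠ E.f i (j, b) :=
  fun e => h (Prod.ext_iff.1 (E.inj i e)).2

theorem σ_f (a : Fin 3) : E.σ i j (E.f i (j, a)) = E.f i (j, a + 1) := by
  fin_cases a
  · exact c3_fst (fne (by decide)) (fne (by decide))
  · exact c3_snd (fne (by decide)) (fne (by decide))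
  · exact c3_thd

theorem σ_other (h : v ∉ E.tr i j) : E.σ i j v = v := by
  simp only [mem_tr, not_exists] at h
  exact c3_other (Ne.symm (h 0)) (Ne.symm (h 1)) (Ne.symm (h 2))

theorem σ_pow_f (n : ℕ) (a : Fin 3) :
    (E.σ i j ^ n) (E.f i (j, a)) = E.f i (j, a + (n : Fin 3)) := by
  induction n with
  | zero => simp
  | succ n ih =>
    rw [pow_succ', Perm.mul_apply, ih, σ_f]
    simp [add_assoc]

theorem σ_moves : E.σ i j v ≠ v ↔ v ∈ E.tr i j := by
  constructor
  · exact fun h => by_contra fun h' => h (σ_other h')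
  · intro h
    obtain ⟨a, rfl⟩ := mem_tr.1 h
    rw [σ_f]
    exact fne (fin3_succ_ne a)

theorem σ_sign : sign (E.σ i j) = 1 := sign_c3 (fne (by decide)) (fne (by decide))

theorem σ_three : (E.σ i j).IsThreeCycle :=
  c3_isThreeCycle (fne (by decide)) (fne (by decide)) (fne (by decide))

theorem σ_pow_three : E.σ i j ^ 3 = 1 :=
  c3_pow_three (fne (by decide)) (fne (by decide)) (fne (by decide))

theorem inside_mem {ψ : Perm (Fin m)} (hψ : ∀ v, v ∉ E.tr i j → ψ v = v) (h : v ∈ E.tr i j) :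
    ψ v ∈ E.tr i j := by
  by_contra h'
  have := hψ _ h'
  exact h' (by rw [ψ.injective this]; exact h)

end Slots

/-- commutes with all slot elements -/
def CommE (E : Slots k m s) (g : Perm (Pt k m)) : Prop :=
  ∀ i j, Commute g (ι i (E.σ i j))

theorem CommE.slab {E : Slots k m s} {g : Perm (Pt k m)} (hg : CommE E g) (i : Fin k)
    (j : Fin s) (z : Pt k m) : g z i ∈ E.tr i j ↔ z i ∈ E.tr i j := by
  rw [← Slots.σ_moves, ← Slots.σ_moves, Ne, Ne, ← ι_eq_iff_apply (f := g z),
    ← ι_eq_iff_apply (f := z), ← Perm.mul_apply, ← (hg i j).eq, Perm.mul_apply]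
  exact not_congr g.injective.eq_iff

theorem CommE.mem_F {E : Slots k m s} {g : Perm (Pt k m)} (hg : CommE E g) (i : Fin k)
    (z : Pt k m) : g z i ∈ E.F i ↔ z i ∈ E.F i := by
  rw [← not_iff_not, Slots.not_mem_F, Slots.not_mem_F]
  exact exists_congr fun j => hg.slab i j z

/-- `e` respects the slot structure at coordinate `i` -/
structure Pres (E : Slots k m s) (e : Perm (Pt k m)) (i : Fin k) : Prop where
  val : ∀ z v, v ∉ E.F i → (e z i = v ↔ z i = v)
  com : ∀ j, Commute e (ι i (E.σ i j))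

theorem Pres.eq_of {E : Slots k m s} {e : Perm (Pt k m)} {i : Fin k} (h : Pres E e i)
    {z : Pt k m} (hz : z i ∉ E.F i) : e z i = z i := (h.val z _ hz).2 rfl

theorem Pres.com_inside {E : Slots k m s} {e : Perm (Pt k m)} {i : Fin k} (h : Pres E e i)
    {j : Fin s} {ψ : Perm (Fin m)} (hψ : ∀ v, v ∉ E.tr i j → ψ v = v) :
    Commute e (ι i ψ) := by
  refine Equiv.ext fun z => ?_
  simp only [Perm.mul_apply]
  by_cases hz : z i ∈ E.tr i j
  · have hv : e z i = z i := h.eq_of (Slots.not_mem_F_of_tr hz)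
    have hψv := Slots.inside_mem hψ hz
    obtain ⟨a, ha⟩ := Slots.mem_tr.1 hz
    obtain ⟨b, hb⟩ := Slots.mem_tr.1 hψv
    have key : ∀ w : Pt k m, w i = z i →
        ι i ψ w = ι i (E.σ i j ^ (b - a : Fin 3).val) w := by
      intro w hw
      rw [ι_apply, ι_apply, hw]
      congr 1
      rw [← hb, ← ha, Slots.σ_pow_f]
      simp [Fin.cast_val_eq_self]
    rw [key z rfl, key (e z) hv, map_pow]
    exact congrArg (fun g : Perm (Pt k m) => g z) ((h.com j).pow_right _).eq
  · have hez : e z i ∉ E.tr i j := fun h' =>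
      hz (((h.val z _ (Slots.not_mem_F_of_tr h')).1 rfl) ▸ h')
    rw [ι_eq_iff_apply.2 (hψ _ hz), ι_eq_iff_apply.2 (hψ _ hez)]

/-- `e` commutes with enough three cycles at coordinate `i` -/
def CommA (e : Perm (Pt k m)) (i : Fin k) : Prop :=
  ∃ f1 f2, f1 ≠ f2 ∧ ∀ x, x ≠ f1 → x ≠ f2 → Commute e (ι i (c3 f1 f2 x))

theorem CommA.spec (hm : 5 ≤ m) {e : Perm (Pt k m)} {i : Fin k} (h : CommA e i) :
    (∀ z, e z i = z i) ∧ ∀ z v, e (Function.update z i v) = Function.update (e z) i v := by
  obtain ⟨f1, f2, h12, hx⟩ := h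
  let S : Subgroup (Perm (Fin m)) := (Subgroup.centralizer {e}).comap (ι i)
  have hmem : ∀ {α}, α ∈ S → Commute e (ι i α) := fun {α} hα => by
    simp only [S, Subgroup.mem_comap, Subgroup.mem_centralizer_iff, Set.mem_singleton_iff,
      forall_eq] at hα
    exact hα
  have hS : ∀ x, x ≠ f1 → x ≠ f2 → c3 f1 f2 x ∈ S := fun x h1 h2 => by
    simp only [S, Subgroup.mem_comap, Subgroup.mem_centralizer_iff, Set.mem_singleton_iff,
      forall_eq]
    exact (hx x h1 h2).eq
  have h1 : ∀ z, e z i = z i := fun z => by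
    by_contra hne
    obtain ⟨α, hα, ha, hb⟩ := c3_sep h12 (by omega) hS (Ne.symm hne)
    have h' := congrArg (fun g : Perm (Pt k m) => g z) (hmem hα).eq
    simp only [Perm.mul_apply] at h'
    rw [ι_eq_iff_apply.2 ha] at h'
    exact hb (ι_eq_iff_apply.1 h'.symm)
  refine ⟨h1, fun z v => ?_⟩
  obtain ⟨α, hα, ha⟩ := c3_trans h12 (by omega) hS (z i) v
  have h' := congrArg (fun g : Perm (Pt k m) => g z) (hmem hα).eq
  simp only [Perm.mul_apply, ι_apply, h1 z, ha] at h'
  exact h'

theorem only_of_commA (hm : 5 ≤ m) {e : Perm (Pt k m)} {C : Finset (Fin k)}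
    (h : ∀ i, i ∉ C → CommA e i) : Only C e := by
  refine ⟨fun z i hi => ((h i hi).spec hm).1 z, fun z z' hzz i hi => ?_⟩
  have : ∀ t : Finset (Fin k), (∀ l ∈ t, l ∉ C) →
      e (t.piecewise z' z) i = e z i := by
    intro t
    induction t using Finset.induction_on with
    | empty => simp
    | insert a t _ ih =>
      intro hC
      rw [Finset.piecewise_insert, ((h a (hC a (by simp))).spec hm).2,
        Function.update_of_ne (fun h' => hC a (by simp) (by rwa [h'] at hi)),
        ih fun l hl => hC l (by simp [hl])]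
  have h' := this Cᶜ (fun l hl => by simpa using hl)
  rw [show Cᶜ.piecewise z' z = z' from funext fun l => by
    by_cases hl : l ∈ C
    · simp [hl, hzz l hl]
    · simp [hl]] at h'
  exact h'.symm

/-- the commutator -/
def cm (a b : Perm (Pt k m)) : Perm (Pt k m) := a * b * a⁻¹ * b⁻¹

/-- `e` is confined to `Y` at coordinate `i` -/
def Conf (e : Perm (Pt k m)) (i : Fin k) (Y : Finset (Fin m)) : Prop :=
  ∀ z, e z ≠ z → z i ∈ Y

theorem cm_mem {E : Slots k m s} {g : Perm (Pt k m)} (hH : Hyp H) (hg : Nrm H g) {i : Fin k}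
    (hP : Pres E g i) (β : Perm (Fin m)) (hβ : ∀ v, v ∉ E.F i → β v = v) :
    cm g (ι i β) ∈ H := by
  rcases Int.units_eq_one_or (sign β) with hs | hs
  · exact mul_mem (hg.ι_mem i hs) (inv_mem (hH.ι_mem i hs))
  · have j : Fin s := ⟨0, E.s1⟩
    let t := swap (E.f i (j, 0)) (E.f i (j, 1))
    have ht : ∀ v, v ∉ E.tr i j → t v = v := fun v hv => by
      apply Equiv.swap_apply_of_ne_of_ne
      · exact fun e => hv (e ▸ Slots.f_mem_tr 0)
      · exact fun e => hv (e ▸ Slots.f_mem_tr 1)
    have hsign : sign β * sign t = 1 := by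
      rw [hs, sign_swap (Slots.fne (by decide))]; rfl
    have h1 := mul_mem (hg.ι_pair i i hsign) (inv_mem (hH.ι_pair i i hsign))
    have e1 : g * ι i t * g⁻¹ = ι i t := by
      rw [(hP.com_inside ht).eq]; group
    have : g * (ι i β * ι i t) * g⁻¹ * (ι i β * ι i t)⁻¹ = cm g (ι i β) := by
      rw [show g * (ι i β * ι i t) * g⁻¹ = (g * ι i β * g⁻¹) * (g * ι i t * g⁻¹) by group, e1]
      unfold cm; group
    rwa [this] at h1

theorem cm_conf_other {e : Perm (Pt k m)} {i c : Fin k} {Y : Finset (Fin m)} (h : Conf e c Y)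
    (hc : c ≠ i) (β : Perm (Fin m)) : Conf (cm e (ι i β)) c Y := by
  intro z hz
  by_contra hzc
  apply hz
  have fix : ∀ w : Pt k m, w c ∉ Y → e w = w := fun w hw => by_contra fun h' => hw (h w h')
  set w := (ι i β)⁻¹ z with hw
  have hwc : w c = z c := by rw [hw, ← map_inv, ι_apply, Function.update_of_ne hc]
  have e2 : e⁻¹ w = w := by
    rw [Perm.inv_def, Equiv.symm_apply_eq]; exact (fix w (hwc ▸ hzc)).symm
  simp only [cm, Perm.mul_apply, ← hw]
  rw [e2, hw]
  simp [fix z hzc]

theorem cm_commute {e : Perm (Pt k m)} {i c : Fin k} {α : Perm (Fin m)} (hc : c ≠ i)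
    (h : Commute e (ι c α)) (β : Perm (Fin m)) : Commute (cm e (ι i β)) (ι c α) :=
  ((h.mul_left (ι_commute hc.symm β α)).mul_left h.inv_left).mul_left
    (ι_commute hc.symm β α).inv_left

theorem cm_pres {E : Slots k m s} {e : Perm (Pt k m)} {i c : Fin k} (h : Pres E e c)
    (hc : c ≠ i) (β : Perm (Fin m)) : Pres E (cm e (ι i β)) c := by
  refine ⟨fun z v hv => ?_, fun j => cm_commute hc (h.com j) β⟩
  simp only [cm, Perm.mul_apply, ← map_inv]
  rw [h.val _ _ hv, ι_apply, Function.update_of_ne hc, ← h.val _ _ hv]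
  rw [← Perm.mul_apply, mul_inv_cancel, Perm.one_apply, ι_apply, Function.update_of_ne hc]

theorem cm_commA {e : Perm (Pt k m)} {i c : Fin k} (h : CommA e c) (hc : c ≠ i)
    (β : Perm (Fin m)) : CommA (cm e (ι i β)) c :=
  let ⟨f1, f2, h12, hx⟩ := h
  ⟨f1, f2, h12, fun x h1 h2 => cm_commute hc (hx x h1 h2) β⟩

theorem cm_eq_one {e b : Perm (Pt k m)} : cm e b = 1 ↔ Commute e b := by
  unfold cm
  rw [mul_inv_eq_one, mul_inv_eq_iff_eq_mul]
  exact Iff.rfl

/-- confinement of the commutator with a permutation supported in a preserved set -/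
theorem cm_conf_same {e : Perm (Pt k m)} {i : Fin k} {Y : Finset (Fin m)}
    (hpres : ∀ z, e z i ∈ Y ↔ z i ∈ Y) {β : Perm (Fin m)} (hβ : ∀ v, v ∉ Y → β v = v) :
    Conf (cm e (ι i β)) i Y := by
  intro z hz
  by_contra hzi
  apply hz
  have f1 : (ι i β)⁻¹ z = z := by
    rw [Perm.inv_def, Equiv.symm_apply_eq, eq_comm, ι_eq_iff_apply]
    exact hβ _ hzi
  have f2 : (e⁻¹ z) i ∉ Y := fun h => hzi (by simpa using (hpres (e⁻¹ z)).2 h)
  simp only [cm, Perm.mul_apply, f1, ι_eq_iff_apply.2 (hβ _ f2)]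
  simp

/-- leftover values are individually preserved -/
theorem fix_F {E : Slots k m s} {e : Perm (Pt k m)} {i : Fin k} (hP : Pres E e i)
    (h3 : 3 ≤ (E.F i).card)
    (hswap : ∀ a b, a ∈ E.F i → b ∈ E.F i → a ≠ b → Commute e (ι i (swap a b)))
    (z : Pt k m) : e z i = z i := by
  by_cases hz : z i ∈ E.F i
  swap
  · exact hP.eq_of hz
  by_contra hne
  have he : e z i ∈ E.F i := by
    by_contra h
    exact hne ((hP.val z _ h).1 rfl).symm
  obtain ⟨w, hw, hw'⟩ := Finset.exists_mem_notMem_of_card_lt_card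
    (s := {z i, e z i}) (t := E.F i) (lt_of_le_of_lt Finset.card_le_two (by omega))
  simp at hw'
  have h' := congrArg (fun g : Perm (Pt k m) => g z) (hswap _ _ hw he hw'.2).eq
  simp only [Perm.mul_apply] at h'
  rw [ι_eq_iff_apply.2 (Equiv.swap_apply_of_ne_of_ne (Ne.symm hw'.1) (Ne.symm hne))] at h'
  have := ι_eq_iff_apply.1 h'.symm
  simp at this
  exact hw'.2 this

theorem step {E : Slots k m s} {e : Perm (Pt k m)} (hH : Hyp H) (he : Nrm H e) {i : Fin k}
    (hP : Pres E e i) (hC : ¬ CommA e i) :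
    ∃ β Y, cm e (ι i β) ∈ H ∧ cm e (ι i β) ≠ 1 ∧ 2 * Finset.card Y ≤ m + 1 ∧
      Conf (cm e (ι i β)) i Y := by
  by_cases hsw : 3 ≤ (E.F i).card ∧ ∃ a b, a ∈ E.F i ∧ b ∈ E.F i ∧ a ≠ b ∧
      ¬ Commute e (ι i (swap a b))
  · obtain ⟨-, a, b, ha, hb, hab, hnc⟩ := hsw
    have hβ : ∀ v, v ∉ E.F i → swap a b v = v := fun v hv =>
      Equiv.swap_apply_of_ne_of_ne (fun e => hv (e ▸ ha)) (fun e => hv (e ▸ hb))
    refine ⟨swap a b, E.F i, cm_mem hH he hP _ hβ, fun h => hnc (cm_eq_one.1 h),
      Slots.two_F_le, cm_conf_same (fun z => ?_) hβ⟩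
    constructor
    · intro h
      by_contra hz
      rw [hP.eq_of hz] at h
      exact hz h
    · intro h
      by_contra hz
      exact hz ((hP.val z _ hz).1 rfl ▸ h)
  · obtain ⟨f1, hf1, f2, hf2, h12⟩ := Finset.one_lt_card.1
      (show 1 < (E.F i).card from lt_of_lt_of_le one_lt_two Slots.two_le_F)
    obtain ⟨x, hx1, hx2, hnc⟩ : ∃ x, x ≠ f1 ∧ x ≠ f2 ∧ ¬ Commute e (ι i (c3 f1 f2 x)) := by
      by_contra h
      simp only [not_exists, not_and, not_not] at h
      exact hC ⟨f1, f2, h12, h⟩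
    have hsign : sign (c3 f1 f2 x) = 1 := sign_c3 h12 hx2.symm
    refine ⟨c3 f1 f2 x, {f1, f2, x}, mul_mem (he.ι_mem i hsign) (inv_mem (hH.ι_mem i hsign)),
      fun h => hnc (cm_eq_one.1 h), ?_, cm_conf_same (fun z => ?_) (fun v hv => ?_)⟩
    · have := Finset.card_le_three (a := f1) (b := f2) (c := x)
      have := hH.hm
      omega
    · by_cases h3 : 3 ≤ (E.F i).card
      · simp only [h3, true_and, not_exists, not_and, not_not] at hsw
        rw [fix_F hP h3 hsw z]
      · have hF : E.F i = {f1, f2} := by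
          symm
          apply Finset.eq_of_subset_of_card_le
          · intro v hv
            rcases Finset.mem_insert.1 hv with rfl | hv
            · exact hf1
            · rw [Finset.mem_singleton.1 hv]; exact hf2
          · rw [Finset.card_pair h12]; omega
        by_cases hz : z i ∈ E.F i
        · have : e z i ∈ E.F i := by
            by_contra h
            exact h ((hP.val z _ h).1 rfl ▸ hz)
          rw [hF] at hz this
          simp at hz this
          refine ⟨fun _ => ?_, fun _ => ?_⟩ <;> simp <;> tauto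
        · rw [hP.eq_of hz]
    · simp at hv
      exact c3_other hv.1 hv.2.1 hv.2.2

theorem alt_of_conf {E : Slots k m s} (hH : Hyp H) : ∀ (n : ℕ) (C : Finset (Fin k))
    (Y : Fin k → Finset (Fin m)) (e : Perm (Pt k m)), Fintype.card (Fin k) ≤ C.card + n →
    2 ≤ C.card → e ∈ H → e ≠ 1 → (∀ i ∈ C, 2 * (Y i).card ≤ m + 1 ∧ Conf e i (Y i)) →
    (∀ i, i ∉ C → Pres E e i ∨ CommA e i) → alternatingGroup (Pt k m) ≤ H := by
  classical
  intro n
  induction n with
  | zero =>
    intro C Y e hn hC he hne hY hrest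
    have hCu : C = Finset.univ :=
      Finset.eq_univ_of_card _ (le_antisymm C.card_le_univ (by simpa using hn))
    exact alt_of_box hH he hC (only_of_commA hH.hm fun i hi => absurd (by simp [hCu]) hi) hne Y
      (fun i hi => (hY i hi).1) (fun i hi z hz => (hY i hi).2 z hz)
  | succ n ih =>
    intro C Y e hn hC he hne hY hrest
    by_cases hall : ∀ i, i ∉ C → CommA e i
    · exact alt_of_box hH he hC (only_of_commA hH.hm hall) hne Y
        (fun i hi => (hY i hi).1) (fun i hi z hz => (hY i hi).2 z hz)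
    simp only [not_forall] at hall
    obtain ⟨i, hi, hnA⟩ := hall
    obtain ⟨β, Yi, hmem, hne', hYi, hconf⟩ :=
      step hH (hH.nrm_of_mem he) ((hrest i hi).resolve_right hnA) hnA
    refine ih (insert i C) (Function.update Y i Yi) _ ?_ ?_ hmem hne' ?_ ?_
    · rw [Finset.card_insert_of_notMem hi]; omega
    · rw [Finset.card_insert_of_notMem hi]; omega
    · intro c hc
      rcases eq_or_ne c i with rfl | hci
      · simpa using ⟨hYi, hconf⟩
      · rw [Function.update_of_ne hci]
        have hcC := (Finset.mem_insert.1 hc).resolve_left hci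
        exact ⟨(hY c hcC).1, cm_conf_other (hY c hcC).2 hci β⟩
    · intro c hc
      simp only [Finset.mem_insert, not_or] at hc
      rcases hrest c hc.2 with h | h
      · exact Or.inl (cm_pres h hc.1 β)
      · exact Or.inr (cm_commA h hc.1 β)

theorem engine {E : Slots k m s} (hH : Hyp H) {e : Perm (Pt k m)} (he : e ∈ H) (hW : ¬ IsW e)
    (c0 : Fin k) (Y : Finset (Fin m)) (hY : 2 * Y.card ≤ m + 1) (hconf : Conf e c0 Y)
    (hP : ∀ i, i ≠ c0 → Pres E e i) : alternatingGroup (Pt k m) ≤ H := by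
  classical
  by_cases hall : ∀ i, i ≠ c0 → CommA e i
  · exfalso
    apply hW
    have hon : Only {c0} e := only_of_commA hH.hm fun i hi => hall i (by simpa using hi)
    let o : Pt k m := fun _ => ⟨0, by have := hH.hm; omega⟩
    let β : Fin m → Fin m := fun v => e (Function.update o c0 v) c0
    have hβ : ∀ z, e z c0 = β (z c0) := fun z =>
      hon.dep _ _ (fun i hi => by simp at hi; subst hi; simp) c0 (by simp)
    have inj : Function.Injective β := by
      intro v v' h
      have : e (Function.update o c0 v) = e (Function.update o c0 v') := funext fun i => by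
        rcases eq_or_ne i c0 with rfl | hi
        · exact h
        · simp [hon.out _ i (by simpa using hi), hi]
      simpa using congrFun (e.injective this) c0
    refine ⟨1, Function.update 1 c0 (Equiv.ofBijective β inj.bijective_of_finite), fun f i => ?_⟩
    rcases eq_or_ne i c0 with rfl | hi
    · simp [hβ, Perm.one_def]
    · simp [hi, hon.out f i (by simpa using hi), Perm.one_def]
  simp only [not_forall] at hall
  obtain ⟨i, hi, hnA⟩ := hall
  obtain ⟨β, Yi, hmem, hne', hYi, hconf'⟩ := step hH (hH.nrm_of_mem he) (hP i hi) hnA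
  refine alt_of_conf (E := E) hH (Fintype.card (Fin k)) {c0, i}
    (Function.update (fun _ => Y) i Yi) _ (by omega)
    (by rw [Finset.card_pair hi.symm]) hmem hne' ?_ ?_
  · intro c hc
    rcases eq_or_ne c i with rfl | hci
    · simpa using ⟨hYi, hconf'⟩
    · rw [Function.update_of_ne hci]
      have : c = c0 := by simpa [hci] using hc
      subst this
      exact ⟨hY, cm_conf_other hconf hci β⟩
  · intro c hc
    simp at hc
    exact Or.inl (cm_pres (hP c hc.1) hc.2 β)

end Cfsg.Agent.PA24
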