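import Cfsg.Agent.PA24.Central

/-!
An overgroup of the even base with all top permutations contains the alternating group or lies
in the product action wreath product.
-/

set_option autoImplicit false

namespace Cfsg.Agent.PA24

open Equiv Equiv.Perm Finset

variable {k m s : ℕ} {H : Subgroup (Perm (Pt k m))} {E : Slots k m s}

theorem fc_two {i i' : Fin k} (h : i ≠ i') (α β : Perm (Fin m)) :
    fc (ι i α * ι i' β) = fc α * fc β * m ^ (k - 2) := by
  rw [ι_eq, ι_eq, ← map_mul, fc_bas, ← Finset.mul_prod_erase _ _ (Finset.mem_univ i),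
    ← Finset.mul_prod_erase _ _ (Finset.mem_erase.2 ⟨h.symm, Finset.mem_univ i'⟩),
    mul_assoc (fc α)]
  simp only [Pi.mul_apply, Pi.mulSingle_eq_same, Pi.mulSingle_eq_of_ne h,
    Pi.mulSingle_eq_of_ne h.symm, one_mul, mul_one]
  congr 2
  rw [Finset.prod_congr rfl (g := fun _ => m) (fun j hj => by
    simp only [Finset.mem_erase] at hj
    simp [hj.1, hj.2.1, fc_one])]
  simp [Finset.card_erase_of_mem, h.symm, Nat.sub_sub]

theorem fc_mod {α : Perm (Fin m)} (h3 : α ^ 3 = 1) : 3 ∣ m - fc α := by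
  have hp : Fact (Nat.Prime 3) := ⟨Nat.prime_three⟩
  have hs := α.support.card_le_univ
  simp only [Fintype.card_fin] at hs
  rw [fc_eq, Fintype.card_fin, Nat.sub_sub_self hs, ← sum_cycleType]
  exact Multiset.dvd_sum fun n hn => by rw [pow_prime_eq_one_iff.1 h3 n hn]

theorem three_eq_c3 {α : Perm (Fin m)} (h : α.IsThreeCycle) {a : Fin m} (ha : α a ≠ a) :
    α = c3 a (α a) (α (α a)) ∧ a ≠ α a ∧ α a ≠ α (α a) ∧ a ≠ α (α a) := by
  have h3 : α (α (α a)) = a := by
    have := h.orderOf ▸ pow_orderOf_eq_one α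
    have := congrArg (fun g : Perm (Fin m) => g a) this
    simpa [pow_succ] using this
  have n1 : a ≠ α a := Ne.symm ha
  have n2 : α a ≠ α (α a) := fun e => n1 (α.injective e)
  have n3 : a ≠ α (α a) := fun e => n1 (by
    have e' := congrArg α e
    exact (e'.trans h3).symm)
  refine ⟨?_, n1, n2, n3⟩
  have hs : α.support = {a, α a, α (α a)} := by
    symm
    apply Finset.eq_of_subset_of_card_le
    · intro v hv
      simp at hv
      rw [mem_support]
      rcases hv with rfl | rfl | rfl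
      · exact ha
      · exact Ne.symm n2
      · intro e; exact n2 (α.injective e).symm
    · rw [h.card_support, Finset.card_eq_three.2 ⟨_, _, _, n1, n3, n2, rfl⟩]
  ext1 v
  by_cases hv : v ∈ α.support
  · rw [hs] at hv
    simp at hv
    rcases hv with rfl | rfl | rfl
    · rw [c3_fst n1 n3]
    · rw [c3_snd n3 n2]
    · rw [c3_thd, h3]
  · have hv' := hv
    rw [hs] at hv'
    simp at hv'
    rw [notMem_support.1 hv, c3_other hv'.1 hv'.2.1 hv'.2.2]

theorem isW_of_images (hH : Hyp H) (hA : ¬ alternatingGroup (Pt k m) ≤ H) (E : Slots k m s)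
    {h : Perm (Pt k m)} (hN : Nrm H h) (hW : ∀ i j, IsW (h⁻¹ * ι i (E.σ i j) * h)) :
    IsW h := by
  classical
  have hm := hH.hm
  have hk := hH.hk
  have hs1 := E.s1
  have hlo := E.lo
  have hfcσ : ∀ i j, fc (E.σ i j) = m - 3 := fun i j => by
    simp [fc_eq, Slots.σ_three.card_support]
  have him : ∀ i j, ∃ p α, α.IsThreeCycle ∧ h⁻¹ * ι i (E.σ i j) * h = ι p α := by
    intro i j
    refine weight_one hm (hW i j) ?_ ?_
    · have := conj_pow (i := 3) (a := h⁻¹) (b := ι i (E.σ i j))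
      rw [inv_inv] at this
      rw [this, ← map_pow, Slots.σ_pow_three, map_one]
      simp
    · have := fc_conj h⁻¹ (ι i (E.σ i j))
      rw [inv_inv] at this
      rw [this, fc_ι, hfcσ]
  choose p α hα he using him
  have hprod : ∀ i j i' j', ι (p i j) (α i j) * ι (p i' j') (α i' j') =
      h⁻¹ * (ι i (E.σ i j) * ι i' (E.σ i' j')) * h := by
    intro i j i' j'
    rw [← he, ← he]; group
  have hfc : ∀ i j i' j', fc (ι (p i j) (α i j) * ι (p i' j') (α i' j')) =
      fc (ι i (E.σ i j) * ι i' (E.σ i' j')) := by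
    intro i j i' j'
    rw [hprod]
    have := fc_conj h⁻¹ (ι i (E.σ i j) * ι i' (E.σ i' j'))
    rwa [inv_inv] at this
  have hfcα : ∀ i j, fc (α i j) = m - 3 := fun i j => by
    simp [fc_eq, (hα i j).card_support]
  have hsame : ∀ i j j', j ≠ j' →
      p i j = p i j' ∧ Disjoint (α i j).support (α i j').support := by
    intro i j j' hjj
    have hm8 : 8 ≤ m := by
      have : 2 ≤ s := by
        by_contra hs
        exact hjj (Fin.ext (by omega))
      omega
    have hd : (E.σ i j).Disjoint (E.σ i j') := fun v => by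
      by_cases hv : v ∈ E.tr i j
      · exact Or.inr (Slots.σ_other fun h' => hjj (Slots.tr_disj hv h'))
      · exact Or.inl (Slots.σ_other hv)
    have e := hfc i j i j'
    have hm6 : fc (E.σ i j * E.σ i j') = m - 6 := by
      simp [fc_eq, hd.card_support_mul, Slots.σ_three.card_support]
    rw [← map_mul (ι i), fc_ι, hm6] at e
    have hpp : p i j = p i j' := by
      by_contra hne
      rw [fc_two hne, hfcα, hfcα, show k - 1 = (k - 2) + 1 by omega, pow_succ', ← mul_assoc] at e
      have := Nat.eq_of_mul_eq_mul_right (pow_pos (by omega) _) e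
      obtain ⟨n, rfl⟩ : ∃ n, m = n + 6 := ⟨m - 6, by omega⟩
      simp at this
      have : n + 6 - 3 = n + 3 := by omega
      rw [this] at *
      nlinarith
    refine ⟨hpp, ?_⟩
    rw [← hpp, ← map_mul, fc_ι] at e
    have h6 := Nat.eq_of_mul_eq_mul_right (pow_pos (by omega) _) e
    rw [Finset.disjoint_iff_inter_eq_empty, ← Finset.card_eq_zero]
    have h1 : (α i j * α i j').support.card ≤
        ((α i j).support ∪ (α i j').support).card :=
      Finset.card_le_card (support_mul_le _ _)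
    have h2 := Finset.card_union_add_card_inter (α i j).support (α i j').support
    rw [(hα i j).card_support, (hα i j').card_support] at h2
    have h3 := (α i j * α i j').support.card_le_univ
    simp [fc_eq] at h6 h3
    omega
  let j0 : Fin s := ⟨0, hs1⟩
  have hpi : ∀ i j, p i j = p i j0 := fun i j => by
    rcases eq_or_ne j j0 with rfl | hj
    · rfl
    · exact (hsame i j j0 hj).1
  have hpinj : Function.Injective fun i => p i j0 := by
    intro i i' hpp
    by_contra hne
    have e := hfc i j0 i' j0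
    simp only at hpp
    rw [fc_two hne, hfcσ, hfcσ, ← hpp, ← map_mul, fc_ι, show k - 1 = (k - 2) + 1 by omega,
      pow_succ', ← mul_assoc] at e
    have e' := Nat.eq_of_mul_eq_mul_right (pow_pos (by omega) _) e
    have hdvd : m ∣ (m - 3) * (m - 3) := ⟨fc (α i j0 * α i' j0), by rw [← e', mul_comm]⟩
    have h9 : m ∣ 9 := by
      obtain ⟨n, hn⟩ : ∃ n, m = n + 3 := ⟨m - 3, by omega⟩
      obtain ⟨c, hc⟩ := hdvd
      subst hn
      simp at hc
      refine ⟨c + 3 - n, ?_⟩
      have : n ≤ c + 3 := by nlinarith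
      zify [this] at hc ⊢
      nlinarith
    have hm9 : m = 9 := by
      have := Nat.le_of_dvd (by norm_num) h9
      interval_cases m <;> omega
    have hcube : (α i j0 * α i' j0) ^ 3 = 1 := by
      apply ι_injective (p i j0)
      rw [map_pow, map_mul, map_one]
      conv_lhs => arg 1; arg 2; rw [hpp]
      rw [hprod]
      have hc : Commute (ι i (E.σ i j0)) (ι i' (E.σ i' j0)) := ι_commute hne _ _
      have := conj_pow (i := 3) (a := h⁻¹) (b := ι i (E.σ i j0) * ι i' (E.σ i' j0))
      rw [inv_inv] at this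
      rw [this, hc.mul_pow, ← map_pow, ← map_pow, Slots.σ_pow_three, Slots.σ_pow_three]
      simp
    have := fc_mod hcube
    subst hm9
    omega
  have hpt : ∀ i j, ∃ a, α i j a ≠ a := fun i j => by
    by_contra hcon
    simp only [not_exists, not_not] at hcon
    exact (hα i j).isCycle.ne_one (Equiv.ext hcon)
  choose a ha using hpt
  let b : Fin k → Fin s × Fin 3 → Fin m := fun i q => (α i q.1 ^ q.2.val) (a i q.1)
  have hb : ∀ i j, α i j = c3 (b i (j, 0)) (b i (j, 1)) (b i (j, 2)) ∧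
      ∀ q, b i (j, q) ∈ (α i j).support := by
    intro i j
    obtain ⟨e, n1, n2, n3⟩ := three_eq_c3 (hα i j) (ha i j)
    refine ⟨by simpa [b, pow_two] using e, fun q => ?_⟩
    simp only [b]
    rw [Equiv.Perm.pow_apply_mem_support, mem_support]
    exact ha i j
  have binj : ∀ i, Function.Injective (b i) := by
    rintro i ⟨j, q⟩ ⟨j', q'⟩ e
    have hjj : j = j' := by
      by_contra hne
      exact Finset.disjoint_left.1 (hsame i j j' hne).2 ((hb i j).2 q) (e ▸ (hb i j').2 q')
    subst hjj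
    obtain ⟨-, n1, n2, n3⟩ := three_eq_c3 (hα i j) (ha i j)
    fin_cases q <;> fin_cases q' <;> simp [b, pow_two] at e <;>
      first
        | rfl
        | exact absurd e n1
        | exact absurd e.symm n1
        | exact absurd e n2
        | exact absurd e.symm n2
        | exact absurd e n3
        | exact absurd e.symm n3
        | exact absurd (α i j |>.injective e) n1
        | exact absurd (α i j |>.injective e).symm n1
  choose ρ hρ using fun i => Equiv.Perm.exists_extending_pair (E.f i) (b i) (E.inj i) (binj i)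
  let π : Perm (Fin k) := Equiv.ofBijective _ hpinj.bijective_of_finite
  let v := we π (fun l => ρ (π.symm l))
  have hv : ∀ i j, v * ι i (E.σ i j) * v⁻¹ = h⁻¹ * ι i (E.σ i j) * h := by
    intro i j
    rw [he, we_conj_ι, hpi i j]
    show ι (p i j0) _ = _
    congr 1
    rw [(hb i j).1]
    simp only [Equiv.symm_apply_apply, Slots.σ, conj_c3, hρ]
  have hcomm : CommE E (h * v) := fun i j => by
    show h * v * ι i (E.σ i j) = ι i (E.σ i j) * (h * v)
    calc h * v * ι i (E.σ i j) = h * (v * ι i (E.σ i j) * v⁻¹) * v := by group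
      _ = ι i (E.σ i j) * (h * v) := by rw [hv]; group
  have := isW_of_commE hH hA hcomm (hN.mul_w (isW_we _ _))
  have := (wsub k m).mul_mem this ((wsub k m).inv_mem (isW_we π (fun l => ρ (π.symm l))))
  simpa [v, mem_wsub] using this

/-- slot family avoiding two points -/
theorem exists_slots (hm : 5 ≤ m) (p q : Pt k m) :
    ∃ E : Slots k m ((m - 2) / 3), ∀ i j a, E.f i (j, a) ≠ p i ∧ E.f i (j, a) ≠ q i := by
  have : ∀ i, ∃ ρ : Perm (Fin m),
      ρ ⟨m - 1, by omega⟩ = p i ∧ (ρ ⟨m - 2, by omega⟩ = q i ∨ p i = q i) := by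
    intro i
    obtain ⟨b, hb, hbq⟩ : ∃ b, b ≠ p i ∧ (b = q i ∨ p i = q i) := by
      by_cases h : p i = q i
      · obtain ⟨b, hb⟩ := exists_fresh hm {p i} (by simp)
        exact ⟨b, by simpa using hb, Or.inr h⟩
      · exact ⟨q i, Ne.symm h, Or.inl rfl⟩
    obtain ⟨ρ, hρ⟩ := Equiv.Perm.exists_extending_pair
      (![⟨m - 1, by omega⟩, ⟨m - 2, by omega⟩] : Fin 2 → Fin m) ![p i, b]
      (by intro x y e; fin_cases x <;> fin_cases y <;> simp [Fin.ext_iff] at e ⊢ <;> omega)
      (by intro x y e; fin_cases x <;> fin_cases y <;> simp_all)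
    refine ⟨ρ, hρ 0, ?_⟩
    rcases hbq with rfl | h
    · exact Or.inl (hρ 1)
    · exact Or.inr h
  choose ρ h1 h2 using this
  refine ⟨{
    f := fun i x => ρ i ⟨3 * x.1.val + x.2.val, by have := x.1.isLt; have := x.2.isLt; omega⟩
    inj := fun i x y e => ?_
    s1 := by omega
    lo := by omega
    hi := by omega }, fun i j a => ?_⟩
  · have e' := (ρ i).injective e
    simp [Fin.ext_iff] at e'
    have := x.2.isLt
    have := y.2.isLt
    exact Prod.ext (Fin.ext (by omega)) (Fin.ext (by omega))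
  · have := j.isLt
    have := a.isLt
    have np : ∀ l : Fin m, 3 * j.val + a.val < l.val →
        ρ i ⟨3 * j.val + a.val, by omega⟩ ≠ ρ i l := fun l hl e => by
      have := (ρ i).injective e
      rw [← this] at hl
      simp at hl
    constructor
    · rw [← h1 i]; exact np _ (by simp; omega)
    · rcases h2 i with h | h
      · rw [← h]; exact np _ (by simp; omega)
      · rw [← h, ← h1 i]; exact np _ (by simp; omega)

/-- the group generated by the slot elements -/
def egrp (E : Slots k m s) : Subgroup (Perm (Pt k m)) :=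
  Subgroup.closure {x | ∃ i j, x = ι i (E.σ i j)}

theorem egrp_pgroup (E : Slots k m s) : IsPGroup 3 (egrp E) := by
  have hc : ∀ x ∈ {x | ∃ i j, x = ι i (E.σ i j)}, ∀ y ∈ {x | ∃ i j, x = ι i (E.σ i j)},
      x * y = y * x := by
    rintro x ⟨i, j, rfl⟩ y ⟨i', j', rfl⟩
    rcases eq_or_ne i i' with rfl | hi
    · rcases eq_or_ne j j' with rfl | hj
      · rfl
      · refine ((Equiv.Perm.Disjoint.commute fun v => ?_).map (ι i)).eq
        by_cases hv : v ∈ E.tr i j
        · exact Or.inr (Slots.σ_other fun h' => hj (Slots.tr_disj hv h'))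
        · exact Or.inl (Slots.σ_other hv)
    · exact (ι_commute hi _ _).eq
  have hle : egrp E ≤ Subgroup.centralizer (egrp E : Set (Perm (Pt k m))) := by
    have h1 : egrp E ≤ Subgroup.centralizer {x | ∃ i j, x = ι i (E.σ i j)} := by
      refine (Subgroup.closure_le _).2 fun x hx => ?_
      exact Subgroup.mem_centralizer_iff.2 fun y hy => hc y hy x hx
    refine (Subgroup.closure_le _).2 fun x hx => ?_
    exact Subgroup.mem_centralizer_iff.2 fun y hy =>
      (Subgroup.mem_centralizer_iff.1 (h1 hy) x hx).symm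
  rintro ⟨x, hx⟩
  refine ⟨1, Subtype.ext ?_⟩
  simp only [pow_one, SubgroupClass.coe_pow, OneMemClass.coe_one]
  induction hx using Subgroup.closure_induction with
  | mem x hx => obtain ⟨i, j, rfl⟩ := hx; rw [← map_pow, Slots.σ_pow_three, map_one]
  | one => simp
  | mul x y hx hy ihx ihy =>
    have hc' : Commute x y := ((Subgroup.mem_centralizer_iff.1 (hle hx)) y hy).symm
    rw [hc'.mul_pow, ihx, ihy, one_mul]
  | inv x _ ihx => rw [inv_pow, ihx, inv_one]

theorem egrp_le_H (hH : Hyp H) (E : Slots k m s) : egrp E ≤ H :=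
  (Subgroup.closure_le _).2 fun x ⟨i, j, hx⟩ => hx ▸ hH.ι_mem i Slots.σ_sign

/-- three groups of `H` containing the slot group lie in the wreath product -/
theorem pgroup_le_w (hH : Hyp H) (hA : ¬ alternatingGroup (Pt k m) ≤ H) (E : Slots k m s)
    (Q : Subgroup (Perm (Pt k m))) (hQ : IsPGroup 3 Q) (hQH : Q ≤ H) (hEQ : egrp E ≤ Q) :
    Q ≤ wsub k m := by
  have hp : Fact (Nat.Prime 3) := ⟨Nat.prime_three⟩
  by_contra hnot
  let Q0 : Subgroup Q := (wsub k m).subgroupOf Q
  have hlt : Q0 < ⊤ := by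
    rw [lt_top_iff_ne_top]
    intro h
    exact hnot (Subgroup.subgroupOf_eq_top.1 h)
  have hn := Group.normalizerCondition_of_isNilpotent (h := hQ.isNilpotent) Q0 hlt
  obtain ⟨⟨g, hgQ⟩, hgn, hg⟩ := SetLike.exists_of_lt hn
  apply hg
  rw [Subgroup.mem_subgroupOf]
  refine isW_of_images hH hA E (hH.nrm_of_mem (hQH hgQ)) fun i j => ?_
  have hxE : ι i (E.σ i j) ∈ egrp E := Subgroup.subset_closure ⟨i, j, rfl⟩
  have hx0 : (⟨ι i (E.σ i j), hEQ hxE⟩ : Q) ∈ Q0 := by
    rw [Subgroup.mem_subgroupOf]; exact isW_ι _ _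
  have := (Subgroup.mem_normalizer_iff''.1 hgn ⟨ι i (E.σ i j), hEQ hxE⟩).1 hx0
  exact this

/-- main dichotomy -/
theorem dichotomy (hH : Hyp H) :
    alternatingGroup (Pt k m) ≤ H ∨ ∀ h ∈ H, IsW h := by
  classical
  by_cases hA : alternatingGroup (Pt k m) ≤ H
  · exact Or.inl hA
  refine Or.inr fun h hh => isW_of_adj fun p q1 hadj => ?_
  have hp : Fact (Nat.Prime 3) := ⟨Nat.prime_three⟩
  let p' := h p
  let q' := h q1
  obtain ⟨E, hE⟩ := exists_slots hH.hm p' q'
  obtain ⟨E1, hE1⟩ := exists_slots hH.hm p q1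
  let K : Subgroup (Perm (Pt k m)) :=
    H ⊓ MulAction.stabilizer (Perm (Pt k m)) p' ⊓ MulAction.stabilizer (Perm (Pt k m)) q'
  have hEK : egrp E ≤ K := by
    refine le_inf (le_inf (egrp_le_H hH E) ?_) ?_ <;>
    · refine (Subgroup.closure_le _).2 ?_
      rintro x ⟨i, j, rfl⟩
      rw [SetLike.mem_coe, MulAction.mem_stabilizer_iff]
      refine ι_eq_iff_apply.2 (Slots.σ_other fun hm' => ?_)
      obtain ⟨a, ha⟩ := Slots.mem_tr.1 hm'
      first | exact (hE i j a).1 ha | exact (hE i j a).2 ha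
  let c := (MulAut.conj h).toMonoidHom
  have hE1K : (egrp E1).map c ≤ K := by
    rw [Subgroup.map_le_iff_le_comap]
    refine (Subgroup.closure_le _).2 ?_
    rintro x ⟨i, j, rfl⟩
    have hfix : ι i (E1.σ i j) p = p ∧ ι i (E1.σ i j) q1 = q1 := by
      constructor <;>
      · refine ι_eq_iff_apply.2 (Slots.σ_other fun hm' => ?_)
        obtain ⟨a, ha⟩ := Slots.mem_tr.1 hm'
        first | exact (hE1 i j a).1 ha | exact (hE1 i j a).2 ha
    refine ⟨⟨H.mul_mem (H.mul_mem hh (hH.ι_mem i Slots.σ_sign)) (H.inv_mem hh), ?_⟩, ?_⟩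
    · show h (ι i (E1.σ i j) (h⁻¹ (h p))) = h p
      rw [show h⁻¹ (h p) = p by simp, hfix.1]
    · show h (ι i (E1.σ i j) (h⁻¹ (h q1))) = h q1
      rw [show h⁻¹ (h q1) = q1 by simp, hfix.2]
  obtain ⟨Q, hQ⟩ := ((egrp_pgroup E).of_injective (Subgroup.subgroupOfEquivOfLe hEK).toMonoidHom
    (Subgroup.subgroupOfEquivOfLe hEK).injective).exists_le_sylow (G := K)
  obtain ⟨Q1, hQ1⟩ := (((egrp_pgroup E1).map c).of_injective
    (Subgroup.subgroupOfEquivOfLe hE1K).toMonoidHom
    (Subgroup.subgroupOfEquivOfLe hE1K).injective).exists_le_sylow (G := K)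
  obtain ⟨⟨g, hgK⟩, hg⟩ := MulAction.exists_smul_eq K Q Q1
  let P1 : Subgroup (Perm (Pt k m)) :=
    ((Q1 : Subgroup K).map K.subtype).map (MulAut.conj h⁻¹).toMonoidHom
  have hP1H : P1 ≤ H := by
    rintro _ ⟨_, ⟨⟨x, hx⟩, -, rfl⟩, rfl⟩
    exact H.mul_mem (H.mul_mem (H.inv_mem hh) hx.1.1) (H.inv_mem (H.inv_mem hh))
  have hP1E : egrp E1 ≤ P1 := by
    intro x hx
    have h1 : c x ∈ (egrp E1).map c := Subgroup.mem_map_of_mem c hx
    refine ⟨c x, ⟨⟨c x, hE1K h1⟩, hQ1 (Subgroup.mem_subgroupOf.2 h1), rfl⟩, ?_⟩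
    simp [c, MulAut.conj_apply, mul_assoc]
  have hP1W : P1 ≤ wsub k m :=
    pgroup_le_w hH hA E1 P1 ((Q1.isPGroup'.map _).map _) hP1H hP1E
  have hu : IsW (g⁻¹ * h) := by
    refine isW_of_images hH hA E
      (hH.nrm_of_mem (H.mul_mem (H.inv_mem hgK.1.1) hh)) fun i j => ?_
    have hxE : ι i (E.σ i j) ∈ egrp E := Subgroup.subset_closure ⟨i, j, rfl⟩
    have hxQ : (⟨ι i (E.σ i j), hEK hxE⟩ : K) ∈ (Q : Subgroup K) :=
      hQ (Subgroup.mem_subgroupOf.2 hxE)
    have hQ1' : (⟨g, hgK⟩ : K) * ⟨ι i (E.σ i j), hEK hxE⟩ * ⟨g, hgK⟩⁻¹ ∈ (Q1 : Subgroup K) := by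
      rw [← hg]
      exact Subgroup.smul_mem_pointwise_smul _ (MulAut.conj (⟨g, hgK⟩ : K)) _ hxQ
    have := hP1W (⟨_, ⟨_, hQ1', rfl⟩, rfl⟩ :
      h⁻¹ * (g * ι i (E.σ i j) * g⁻¹) * h⁻¹⁻¹ ∈ P1)
    simpa [mem_wsub, mul_assoc] using this
  have := adj_isW hu hadj
  have e1 : g⁻¹ (h p) = h p := by
    rw [Perm.inv_def, Equiv.symm_apply_eq]; exact (hgK.1.2).symm
  have e2 : g⁻¹ (h q1) = h q1 := by
    rw [Perm.inv_def, Equiv.symm_apply_eq]; exact (hgK.2).symm
  simpa [Perm.mul_apply, e1, e2] using this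

end Cfsg.Agent.PA24
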