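import Cfsg.Agent.PA24.Main

/-!
Parities of wreath product elements and a three cycle outside the wreath product.
-/

set_option autoImplicit false

namespace Cfsg.Agent.PA24

open Equiv Equiv.Perm Finset

variable {k m : ℕ}

theorem sign_ι (i : Fin k) (α : Perm (Fin m)) : sign (ι i α) = sign α ^ (m ^ (k - 1)) := by
  have : (Equiv.funSplitAt i (Fin m)).permCongr (ι i α) = prodCongrLeft (fun _ => α) := by
    refine Equiv.ext fun ⟨v, w⟩ => ?_
    simp only [Equiv.permCongr_apply, ι_apply, Equiv.prodCongrLeft_apply]
    ext1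
    · simp [Equiv.funSplitAt, Equiv.piSplitAt]
    · funext l
      simp [Equiv.funSplitAt, Equiv.piSplitAt, l.2]
  rw [← sign_permCongr (Equiv.funSplitAt i (Fin m)), this, sign_prodCongrLeft]
  simp [Fintype.card_subtype_compl]

theorem sign_bas (τ : Fin k → Perm (Fin m)) :
    sign (bas τ) = (∏ i, sign (τ i)) ^ (m ^ (k - 1)) := by
  classical
  have : ∀ t : Finset (Fin k),
      sign (bas (t.piecewise τ 1)) = ∏ i ∈ t, sign (τ i) ^ (m ^ (k - 1)) := by
    intro t
    induction t using Finset.induction_on with
    | empty => simp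
    | insert a t ha ih =>
      have e : (insert a t).piecewise τ 1 = Pi.mulSingle a (τ a) * t.piecewise τ 1 := by
        funext l
        rcases eq_or_ne l a with rfl | hl
        · simp [ha]
        · simp [hl, Finset.piecewise]
      rw [e, map_mul, map_mul, ih, ← ι_eq, sign_ι, Finset.prod_insert ha]
  have h := this Finset.univ
  simp only [Finset.piecewise_univ, Finset.prod_pow] at h
  exact h

theorem sign_evB {τ : Fin k → Perm (Fin m)} (h : EvB τ) : sign (bas τ) = 1 := by
  rw [sign_bas, h, one_pow]

theorem sign_we_swap {i j : Fin k} (hij : i ≠ j) (h4 : 4 ∣ m ^ (k - 1)) :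
    sign (we (m := m) (swap i j) 1) = 1 := by
  classical
  have h2 : we (m := m) (swap i j) 1 ^ 2 = 1 := by
    rw [pow_two, we_mul]
    simpa [Pi.one_def] using we_one (k := k) (m := m)
  have hfix : Fintype.card (Function.fixedPoints (we (m := m) (swap i j) 1)) = m ^ (k - 1) := by
    let e : Function.fixedPoints (we (m := m) (swap i j) 1) ≃ ({l : Fin k // l ≠ j} → Fin m) :=
      { toFun := fun z l => z.1 l
        invFun := fun w => ⟨fun l => if h : l = j then w ⟨i, hij⟩ else w ⟨l, h⟩, by
          funext l
          simp only [we_apply, Pi.one_apply, Perm.one_apply, Equiv.symm_swap]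
          rcases eq_or_ne l j with rfl | hlj
          · simp [hij]
          · rcases eq_or_ne l i with rfl | hli
            · simp [hij]
            · simp [Equiv.swap_apply_of_ne_of_ne hli hlj]⟩
        left_inv := fun z => by
          apply Subtype.ext
          funext l
          by_cases h : l = j
          · subst h
            have := congrFun z.2 l
            simp at this
            simp [this]
          · simp [h]
        right_inv := fun w => by funext l; simp [l.2] }
    rw [Fintype.card_congr e]
    simp [Fintype.card_subtype_compl]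
  rw [sign_of_pow_two_eq_one h2, hfix]
  simp only [Fintype.card_fun, Fintype.card_fin]
  have hk : k = (k - 1) + 1 := by have := i.isLt; omega
  obtain ⟨c, hc⟩ := h4
  conv_lhs => rw [hk]
  rw [Nat.add_sub_cancel, pow_succ, hc]
  have : 4 * c * m - 4 * c = 4 * (c * m - c) := by rw [Nat.mul_sub, mul_assoc]
  rw [this, show 4 * (c * m - c) / 2 = 2 * (c * m - c) by omega, pow_mul]
  simp

theorem sign_we_top (h4 : 4 ∣ m ^ (k - 1)) (π : Perm (Fin k)) :
    sign (we (m := m) π 1) = 1 := by
  induction π using Equiv.Perm.swap_induction_on with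
  | one => rw [we_one, map_one]
  | swap_mul π i j hij ih =>
    have : we (m := m) (swap i j * π) 1 = we (swap i j) 1 * we π 1 := by
      rw [we_mul]; simp [Pi.one_def]
    rw [this, map_mul, sign_we_swap hij h4, ih, one_mul]

theorem exists_threeCycle_not_isW (hm : 5 ≤ m) (hk : 2 ≤ k) :
    ∃ g : Perm (Pt k m), g.IsThreeCycle ∧ ¬ IsW g := by
  classical
  let i : Fin k := ⟨0, by omega⟩
  let o : Fin m := ⟨0, by omega⟩
  let pt : Fin m → Pt k m := fun v => Function.update (fun _ => o) i v
  have hpt : Function.Injective pt := fun a b e => by simpa [pt] using congrFun e i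
  let g := c3 (pt ⟨0, by omega⟩) (pt ⟨1, by omega⟩) (pt ⟨2, by omega⟩)
  have h3 : g.IsThreeCycle := c3_isThreeCycle (hpt.ne (by simp)) (hpt.ne (by simp))
    (hpt.ne (by simp))
  refine ⟨g, h3, fun hW => ?_⟩
  obtain ⟨π, τ, e⟩ := isW_iff.1 hW
  have hfc : fc g = m ^ k - 3 := by simp [fc_eq, h3.card_support]
  have hk1 : m ^ k = m * m ^ (k - 1) := by rw [← pow_succ', Nat.sub_add_cancel (by omega)]
  have hbig : m ≤ m ^ (k - 1) := Nat.le_self_pow (by omega) m
  have hmk : 5 * m ^ (k - 1) ≤ m * m ^ (k - 1) := Nat.mul_le_mul_right _ hm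
  have hle : fc g ≤ (m - 2) * m ^ (k - 1) := by
    rw [e]
    by_cases hπ : π = 1
    · subst hπ
      obtain ⟨l, hl⟩ : ∃ l, τ l ≠ 1 := by
        by_contra h
        simp only [not_exists, not_not] at h
        refine h3.isCycle.ne_one ?_
        rw [e, show τ = 1 from funext h, we_one]
      rw [← bas_eq, fc_bas, ← Finset.mul_prod_erase _ _ (Finset.mem_univ l)]
      refine Nat.mul_le_mul (by have := fc_le_sub_two hl; omega) ?_
      calc ∏ x ∈ Finset.univ.erase l, fc (τ x) ≤ ∏ _x ∈ Finset.univ.erase l, m :=
            Finset.prod_le_prod' fun x _ => fc_le _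
        _ = m ^ (k - 1) := by simp
    · exact le_trans (fc_we_le hπ τ) (Nat.le_mul_of_pos_left _ (by omega))
  rw [hfc, Nat.sub_mul, hk1] at hle
  omega

end Cfsg.Agent.PA24
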