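import Cfsg.Agent.PA24.Basic

/-!
Recognition of weight-one elements, the Hamming graph, and adjacency preservation.
-/

set_option autoImplicit false

namespace Cfsg.Agent.PA24

open Equiv Equiv.Perm Finset

variable {k m : ℕ}

theorem fc_cube {α : Perm (Fin m)} (h3 : α ^ 3 = 1) (h : α ≠ 1) : fc α + 3 ≤ m := by
  have hp : Fact (Nat.Prime 3) := ⟨Nat.prime_three⟩
  have h2 := two_le_card_support_of_ne_one h
  have hs := α.support.card_le_univ
  have hd : 3 ∣ α.support.card := by
    rw [← sum_cycleType]
    exact Multiset.dvd_sum fun n hn => by rw [pow_prime_eq_one_iff.1 h3 n hn]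
  simp [fc_eq] at *
  omega

theorem fc_c3 {a b c : Fin m} (h1 : a ≠ b) (h2 : b ≠ c) (h3 : a ≠ c) :
    fc (c3 a b c) = m - 3 := by
  simp [fc_eq, (c3_isThreeCycle h1 h2 h3).card_support]

theorem weight_one (hm : 5 ≤ m) {y : Perm (Pt k m)} (hy : IsW y) (h3 : y ^ 3 = 1)
    (hf : fc y = (m - 3) * m ^ (k - 1)) : ∃ i α, α.IsThreeCycle ∧ y = ι i α := by
  obtain ⟨π, τ, rfl⟩ := isW_iff.1 hy
  have hmp : 0 < m ^ (k - 1) := pow_pos (by omega) _
  by_cases hπ : π = 1
  swap
  · have h := fc_we_le hπ τ
    rw [hf] at h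
    have : 2 * m ^ (k - 1) ≤ (m - 3) * m ^ (k - 1) := Nat.mul_le_mul_right _ (by omega)
    omega
  subst hπ
  rw [← bas_eq] at hf h3 ⊢
  have hτ3 : ∀ i, τ i ^ 3 = 1 := fun i => by
    ext x
    rw [← map_pow] at h3
    have := congrArg (fun g : Perm (Pt k m) => g (fun _ => x) i) h3
    simp only [bas_apply, Pi.pow_apply] at this
    simpa [Fin.ext_iff] using this
  rw [fc_bas] at hf
  obtain ⟨i, hi⟩ : ∃ i, τ i ≠ 1 := by
    by_contra h
    simp only [not_exists, not_not] at h
    simp only [h, fc_one, Finset.prod_const, Finset.card_univ, Fintype.card_fin] at hf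
    rcases Nat.eq_zero_or_pos k with rfl | hk
    · simp at hf; omega
    · rw [show k = (k - 1) + 1 by omega, pow_succ'] at hf
      simp at hf
      omega
  have hfi := fc_cube (hτ3 i) hi
  have hone : ∀ j, j ≠ i → τ j = 1 := by
    intro j hji
    by_contra hj
    have hfj := fc_cube (hτ3 j) hj
    rw [← Finset.mul_prod_erase _ _ (Finset.mem_univ i),
      ← Finset.mul_prod_erase _ _ (Finset.mem_erase.2 ⟨hji, Finset.mem_univ j⟩)] at hf
    have hrest : ∏ x ∈ (Finset.univ.erase i).erase j, fc (τ x) ≤ m ^ (k - 2) := by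
      calc ∏ x ∈ (Finset.univ.erase i).erase j, fc (τ x)
          ≤ ∏ _x ∈ (Finset.univ.erase i).erase j, m :=
            Finset.prod_le_prod' fun x _ => fc_le _
        _ = m ^ (k - 2) := by
            simp [Finset.card_erase_of_mem, hji, Nat.sub_sub]
    have hk2 : 2 ≤ k := by
      by_contra hk
      exact hji (Fin.ext (by omega))
    have hlt : fc (τ i) * (fc (τ j) * ∏ x ∈ (Finset.univ.erase i).erase j, fc (τ x))
        ≤ (m - 3) * ((m - 3) * m ^ (k - 2)) :=
      Nat.mul_le_mul (by omega) (Nat.mul_le_mul (by omega) hrest)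
    rw [hf, show k - 1 = (k - 2) + 1 by omega, pow_succ'] at hlt
    have h4 := Nat.le_of_mul_le_mul_left hlt (by omega)
    have h5 := Nat.le_of_mul_le_mul_right h4 (pow_pos (by omega) _)
    omega
  have e : τ = Pi.mulSingle i (τ i) := by
    funext j
    rcases eq_or_ne j i with rfl | hj
    · simp
    · simp [hj, hone j hj]
  refine ⟨i, τ i, ?_, by rw [ι_eq, ← e]⟩
  have hfc : fc (bas τ) = fc (τ i) * m ^ (k - 1) := by
    conv_lhs => rw [e]
    exact fc_ι i (τ i)
  rw [fc_bas, hf] at hfc
  have := Nat.eq_of_mul_eq_mul_right hmp hfc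
  rw [← card_support_eq_three_iff]
  have hs := (τ i).support.card_le_univ
  simp [fc_eq] at this hs
  omega

/-- adjacency in the Hamming graph -/
def Adj (f g : Pt k m) : Prop := ∃ i, f i ≠ g i ∧ ∀ j, j ≠ i → f j = g j

theorem adj_symm {f g : Pt k m} (h : Adj f g) : Adj g f :=
  let ⟨i, h1, h2⟩ := h; ⟨i, h1.symm, fun j hj => (h2 j hj).symm⟩

theorem adj_update {f : Pt k m} {i : Fin k} {v : Fin m} (h : f i ≠ v) :
    Adj f (Function.update f i v) :=
  ⟨i, by simpa using h, fun j hj => by simp [hj]⟩

theorem adj_we {f g : Pt k m} (π : Perm (Fin k)) (τ : Fin k → Perm (Fin m)) (h : Adj f g) :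
    Adj (we π τ f) (we π τ g) := by
  obtain ⟨i, h1, h2⟩ := h
  refine ⟨π i, by simpa using h1, fun j hj => ?_⟩
  have : π.symm j ≠ i := fun e => hj (by simp [← e])
  simp [h2 _ this]

theorem adj_isW {σ : Perm (Pt k m)} (hσ : IsW σ) {f g : Pt k m} (h : Adj f g) :
    Adj (σ f) (σ g) := by
  obtain ⟨π, τ, rfl⟩ := isW_iff.1 hσ
  exact adj_we π τ h

theorem adj_reflect {g : Perm (Pt k m)} (hg : ∀ x y, Adj x y → Adj (g x) (g y)) {x y : Pt k m}
    (h : Adj (g x) (g y)) : Adj x y := by
  classical
  let f : {p : Pt k m × Pt k m // Adj p.1 p.2} → {p : Pt k m × Pt k m // Adj p.1 p.2} :=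
    fun p => ⟨(g p.1.1, g p.1.2), hg _ _ p.2⟩
  have hf : Function.Injective f := by
    rintro ⟨⟨a, b⟩, _⟩ ⟨⟨a', b'⟩, _⟩ e
    simpa [f] using e
  obtain ⟨⟨⟨a, b⟩, hab⟩, e⟩ := (Finite.injective_iff_surjective.1 hf) ⟨(g x, g y), h⟩
  simp [f] at e
  rw [e.1, e.2] at hab
  exact hab

/-- automorphisms of the Hamming graph lie in the wreath product -/
theorem isW_of_adj {g : Perm (Pt k m)} (hg : ∀ x y, Adj x y → Adj (g x) (g y)) : IsW g := by
  classical
  rcases Nat.eq_zero_or_pos m with hm | hm
  · subst hm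
    exact ⟨1, 1, fun f i => (f i).elim0⟩
  let o : Pt k m := fun _ => ⟨0, hm⟩
  let c : Fin k → Perm (Fin m) := fun i => swap (g o i) (o i)
  let g1 := bas c * g
  have hg1 : ∀ x y, Adj x y → Adj (g1 x) (g1 y) := fun x y h => adj_we 1 c (hg x y h)
  have g1o : g1 o = o := by
    funext i; simp [g1, c]
  suffices h : IsW g1 by
    have e : g = (bas c)⁻¹ * g1 := by simp [g1]
    rw [e, ← mem_wsub]
    exact mul_mem (inv_mem (isW_bas c)) h
  let d : Fin k → Fin m → Pt k m := fun i v => Function.update o i v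
  rcases lt_or_ge m 2 with hm2 | hm2
  · refine ⟨1, 1, fun f i => Fin.ext ?_⟩
    have := (g1 f i).isLt
    have := (f i).isLt
    simp
    omega
  let v1 : Fin m := ⟨1, hm2⟩
  have hv1 : ∀ i, o i ≠ v1 := fun i => by simp [o, v1, Fin.ext_iff]
  have him : ∀ i v, v ≠ o i → ∃ j, g1 (d i v) j ≠ o j ∧ ∀ l, l ≠ j → g1 (d i v) l = o l := by
    intro i v hv
    obtain ⟨j, hj1, hj2⟩ := adj_symm (hg1 o (d i v) (adj_update (Ne.symm hv)))
    rw [g1o] at hj1 hj2
    exact ⟨j, hj1, hj2⟩
  choose pp hpp1 hpp2 using fun i => him i v1 (Ne.symm (hv1 i))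
  have hline : ∀ i v, ∀ l, l ≠ pp i → g1 (d i v) l = o l := by
    intro i v l hl
    by_cases hv : v = o i
    · subst hv; simp [d, g1o]
    by_cases hvv : v = v1
    · subst hvv; exact hpp2 i l hl
    obtain ⟨j, hj1, hj2⟩ := him i v hv
    by_cases hj : j = pp i
    · subst hj; exact hj2 l hl
    exfalso
    obtain ⟨j', hj'1, hj'2⟩ := hg1 (d i v) (d i v1)
      ⟨i, by simpa [d] using hvv, fun x hx => by simp [d, hx]⟩
    have e1 : j' = j := by
      by_contra hne
      have := hj'2 j (Ne.symm hne)
      rw [hpp2 i j hj] at this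
      exact hj1 this
    have e2 : j' = pp i := by
      by_contra hne
      have := hj'2 (pp i) (Ne.symm hne)
      rw [hj2 (pp i) (Ne.symm hj)] at this
      exact hpp1 i this.symm
    exact hj (e1 ▸ e2)
  have ppinj : Function.Injective pp := by
    intro i i' e
    by_contra hne
    have h1 : d i v1 ≠ d i' v1 := fun h => by
      have := congrFun h i
      simp [d, hne] at this
      exact hv1 i this.symm
    have h2 : Adj (g1 (d i v1)) (g1 (d i' v1)) := by
      refine ⟨pp i, fun h => h1 (g1.injective (funext fun l => ?_)), fun l hl => ?_⟩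
      · by_cases hl : l = pp i
        · rw [hl]; exact h
        · rw [hline i v1 l hl, hline i' v1 l (e ▸ hl)]
      · rw [hline i v1 l hl, hline i' v1 l (e ▸ hl)]
    obtain ⟨j, hj1, hj2⟩ := adj_reflect hg1 h2
    have e1 : j = i := by
      by_contra hji
      have := hj2 i (Ne.symm hji)
      simp [d, hne] at this
      exact hv1 i this.symm
    have e2 : j = i' := by
      by_contra hji
      have := hj2 i' (Ne.symm hji)
      simp [d, Ne.symm hne] at this
      exact hv1 i' this
    exact hne (e1 ▸ e2)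
  let θ : Fin k → Fin m → Fin m := fun i v => g1 (d i v) (pp i)
  have θinj : ∀ i, Function.Injective (θ i) := by
    intro i v v' e
    have : g1 (d i v) = g1 (d i v') := funext fun l => by
      by_cases hl : l = pp i
      · subst hl; exact e
      · rw [hline i v l hl, hline i v' l hl]
    have := congrFun (g1.injective this) i
    simpa [d] using this
  let π : Perm (Fin k) := Equiv.ofBijective pp ppinj.bijective_of_finite
  let τ : Fin k → Perm (Fin m) := fun j =>
    Equiv.ofBijective (θ (π.symm j)) (θinj (π.symm j)).bijective_of_finite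
  let w := we π τ
  have hw : ∀ i v, w (d i v) = g1 (d i v) := by
    intro i v
    funext l
    by_cases hl : l = pp i
    · subst hl
      have e : π.symm (pp i) = i := π.symm_apply_apply i
      simp [w, τ, θ, e, d]
    · have e : π.symm l ≠ i := fun e => hl (by
        rw [← π.apply_symm_apply l, e]; rfl)
      rw [hline i v l hl]
      have h0 : d (π.symm l) (o (π.symm l)) = o := Function.update_eq_self _ _
      simp [w, τ, θ, d, e]
      rw [g1o]
  let g2 := w⁻¹ * g1
  have hg2 : ∀ x y, Adj x y → Adj (g2 x) (g2 y) := fun x y h =>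
    adj_isW ((wsub k m).inv_mem (isW_we π τ)) (hg1 x y h)
  have g2d : ∀ i v, g2 (d i v) = d i v := by
    intro i v
    show w⁻¹ (g1 (d i v)) = d i v
    rw [← hw i v, Perm.inv_def, Equiv.symm_apply_apply]
  suffices hfix : ∀ z, g2 z = z by
    have e : g1 = w := by
      ext1 z
      have := congrArg w (hfix z)
      simpa [g2] using this
    rw [e]; exact isW_we _ _
  suffices hn : ∀ n, ∀ z : Pt k m, #{j | z j ≠ o j} = n → g2 z = z from fun z => hn _ z rfl
  intro n
  induction n using Nat.strong_induction_on with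
  | _ n ih =>
    intro z hz
    rcases lt_or_ge n 2 with hn2 | hn2
    · rcases Nat.lt_or_ge n 1 with h0 | h1
      · have hzo : z = o := funext fun j => by
          by_contra hj
          have : 0 < #{j | z j ≠ o j} := Finset.card_pos.2 ⟨j, by simpa using hj⟩
          omega
        subst hzo
        rcases Nat.eq_zero_or_pos k with rfl | hk
        · exact funext fun j => j.elim0
        · have := g2d ⟨0, hk⟩ (o ⟨0, hk⟩)
          simpa [d] using this
      · obtain ⟨i, hi⟩ := Finset.card_eq_one.1 (show #{j | z j ≠ o j} = 1 by omega)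
        have hzd : z = d i (z i) := funext fun j => by
          rcases eq_or_ne j i with rfl | hj
          · simp [d]
          · simp [d, hj]
            by_contra hj'
            have : j ∈ ({i} : Finset (Fin k)) := hi ▸ (by simpa using hj')
            exact hj (by simpa using this)
        rw [hzd]; exact g2d _ _
    · obtain ⟨i, hi, i', hi', hne⟩ := Finset.one_lt_card.1 (show 1 < #{j | z j ≠ o j} by omega)
      simp only [Finset.mem_filter, Finset.mem_univ, true_and] at hi hi'
      let a := Function.update z i (o i)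
      let b := Function.update z i' (o i')
      let c := Function.update a i' (o i')
      have hlt : ∀ (y : Pt k m) (l : Fin k), (∀ j, y j ≠ o j → z j ≠ o j ∧ j ≠ l) →
          z l ≠ o l → g2 y = y := by
        intro y l hy hl
        refine ih _ ?_ y rfl
        rw [← hz]
        apply Finset.card_lt_card
        rw [Finset.ssubset_iff_of_subset (fun j hj => by
          simp only [Finset.mem_filter, Finset.mem_univ, true_and] at hj ⊢
          exact (hy j hj).1)]
        exact ⟨l, by simpa using hl, fun h => (hy l (by simpa using h)).2 rfl⟩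
      have ha : g2 a = a := hlt a i (fun j hj => by
        by_cases hji : j = i
        · subst hji; simp [a] at hj
        · simp [a, hji] at hj; exact ⟨hj, hji⟩) hi
      have hb : g2 b = b := hlt b i' (fun j hj => by
        by_cases hji : j = i'
        · subst hji; simp [b] at hj
        · simp [b, hji] at hj; exact ⟨hj, hji⟩) hi'
      have hc : g2 c = c := hlt c i (fun j hj => by
        by_cases hji : j = i
        · subst hji; simp [c, a, hne] at hj
        · by_cases hji' : j = i'
          · subst hji'; simp [c] at hj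
          · simp [c, a, hji, hji'] at hj; exact ⟨hj, hji⟩) hi
      have hza : Adj a z := ⟨i, by simpa [a] using Ne.symm hi, fun j hj => by simp [a, hj]⟩
      have hzb : Adj b z := ⟨i', by simpa [b] using Ne.symm hi', fun j hj => by simp [b, hj]⟩
      have A := hg2 _ _ hza
      have B := hg2 _ _ hzb
      rw [ha] at A
      rw [hb] at B
      set y := g2 z with hy
      obtain ⟨j, hj1, hj2⟩ := A
      obtain ⟨j', hj'1, hj'2⟩ := B
      have hjj : j = i ∨ j = i' := by
        by_contra hcon
        simp only [not_or] at hcon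
        have e1 := hj2 i (Ne.symm hcon.1)
        have e2 := hj2 i' (Ne.symm hcon.2)
        simp [a] at e1
        simp [a, Ne.symm hne] at e2
        rcases eq_or_ne i j' with rfl | h'
        · have := hj'2 i' (Ne.symm hne)
          simp [b] at this
          rw [← e2] at this
          exact hi' this.symm
        · have := hj'2 i h'
          simp [b, hne] at this
          rw [← e1] at this
          exact hi this
      rcases hjj with rfl | rfl
      · have e2 := hj2 i' (Ne.symm hne)
        simp [a, Ne.symm hne] at e2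
        have : j' = i' := by
          by_contra h'
          have := hj'2 i' (Ne.symm h')
          simp [b] at this
          rw [← e2] at this
          exact hi' this.symm
        subst this
        have e1 := hj'2 j hne
        simp [b, hne] at e1
        funext l
        by_cases hl : l = j
        · subst hl; exact e1.symm
        · have := hj2 l hl
          simpa [a, hl] using this.symm
      · exfalso
        have e1 := hj2 i hne
        simp [a] at e1
        have : j' = i := by
          by_contra h'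
          have := hj'2 i (Ne.symm h')
          simp [b, hne] at this
          rw [← e1] at this
          exact hi this
        subst this
        have e2 := hj'2 j (Ne.symm hne)
        simp [b] at e2
        have hyc : y = c := funext fun l => by
          by_cases hl : l = j
          · subst hl; simp [c, ← e2]
          · by_cases hl' : l = j'
            · subst hl'; simp [c, a, hl, ← e1]
            · have := hj2 l hl
              simpa [c, a, hl, hl'] using this.symm
        rw [← hc, hy] at hyc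
        have := g2.injective hyc
        have := congrFun this j
        simp [c] at this
        exact hi' this

section mix
variable {S : Subgroup (Perm (Fin m))} {f1 f2 : Fin m}

theorem c3_trans (h12 : f1 ≠ f2) (hm : 3 ≤ m)
    (hS : ∀ x, x ≠ f1 → x ≠ f2 → c3 f1 f2 x ∈ S) (u v : Fin m) : ∃ α ∈ S, α u = v := by
  have key : ∀ x, ∃ α ∈ S, α x = f1 := by
    intro x
    by_cases h1 : x = f1
    · exact ⟨1, S.one_mem, h1⟩
    by_cases h2 : x = f2
    · obtain ⟨y, hy1, hy2⟩ : ∃ y, y ≠ f1 ∧ y ≠ f2 := by
        have : ({f1, f2} : Finset (Fin m)) ≠ Finset.univ := fun e => by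
          have := congrArg Finset.card e
          have := Finset.card_le_two (a := f1) (b := f2)
          simp_all
          omega
        rw [Ne, Finset.eq_univ_iff_forall, not_forall] at this
        obtain ⟨y, hy⟩ := this
        exact ⟨y, by simpa using hy⟩
      refine ⟨c3 f1 f2 y * c3 f1 f2 y, mul_mem (hS y hy1 hy2) (hS y hy1 hy2), ?_⟩
      rw [h2, Perm.mul_apply, c3_snd (Ne.symm hy1) (Ne.symm hy2), c3_thd]
    · exact ⟨c3 f1 f2 x, hS x h1 h2, c3_thd⟩
  obtain ⟨α, hα, ha⟩ := key u
  obtain ⟨β, hβ, hb⟩ := key v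
  exact ⟨β⁻¹ * α, mul_mem (inv_mem hβ) hα, by simp [ha, ← hb]⟩

theorem c3_sep (h12 : f1 ≠ f2) (hm : 4 ≤ m)
    (hS : ∀ x, x ≠ f1 → x ≠ f2 → c3 f1 f2 x ∈ S) {a b : Fin m} (hab : a ≠ b) :
    ∃ α ∈ S, α a = a ∧ α b ≠ b := by
  obtain ⟨z, hz⟩ : ∃ z, z ∉ ({f1, f2} : Finset (Fin m)) := by
    by_contra h
    simp only [not_exists, not_not] at h
    have := congrArg Finset.card (Finset.eq_univ_iff_forall.2 h)
    have := Finset.card_le_two (a := f1) (b := f2)
    simp_all
    omega
  obtain ⟨γ, hγ, hγa⟩ := c3_trans h12 (by omega) hS a z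
  have hb : γ b ≠ z := fun e => hab (γ.injective (hγa.trans e.symm))
  simp at hz
  suffices h : ∃ α ∈ S, α z = z ∧ α (γ b) ≠ γ b by
    obtain ⟨α, hα, h1, h2⟩ := h
    refine ⟨γ⁻¹ * α * γ, mul_mem (mul_mem (inv_mem hγ) hα) hγ, ?_, ?_⟩
    · simp only [Perm.mul_apply, hγa, h1]
      rw [← hγa]; simp
    · intro e
      apply h2
      have := congrArg γ e
      simpa using this
  obtain ⟨y, hy⟩ : ∃ y, y ∉ ({f1, f2, z} : Finset (Fin m)) := by
    by_contra h
    simp only [not_exists, not_not] at h
    have := congrArg Finset.card (Finset.eq_univ_iff_forall.2 h)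
    have := Finset.card_le_three (a := f1) (b := f2) (c := z)
    simp_all
    omega
  simp at hy
  by_cases h1 : γ b = f1
  · refine ⟨c3 f1 f2 y, hS y hy.1 hy.2.1, c3_other hz.1 hz.2 (Ne.symm hy.2.2), ?_⟩
    rw [h1, c3_fst h12 (Ne.symm hy.1)]
    exact h12.symm
  by_cases h2 : γ b = f2
  · refine ⟨c3 f1 f2 y, hS y hy.1 hy.2.1, c3_other hz.1 hz.2 (Ne.symm hy.2.2), ?_⟩
    rw [h2, c3_snd (Ne.symm hy.1) (Ne.symm hy.2.1)]
    exact hy.2.1
  exact ⟨c3 f1 f2 (γ b), hS _ h1 h2, c3_other hz.1 hz.2 hb.symm, by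
    rw [c3_thd]; exact Ne.symm h1⟩

theorem c3_not_commute {f1 f2 x y : Fin m} (h12 : f1 ≠ f2) (hx1 : x ≠ f1) (hx2 : x ≠ f2)
    (hy1 : y ≠ f1) (hy2 : y ≠ f2) (hxy : x ≠ y) :
    ¬ Commute (c3 f1 f2 x) (c3 f1 f2 y) := by
  intro h
  have := congrArg (fun g : Perm (Fin m) => g f1) h.eq
  simp only [Perm.mul_apply] at this
  rw [c3_fst h12 (Ne.symm hy1), c3_fst h12 (Ne.symm hx1),
    c3_snd (Ne.symm hx1) (Ne.symm hx2), c3_snd (Ne.symm hy1) (Ne.symm hy2)] at this
  exact hxy this

end mix

/-- if `g` sends enough weight-one three cycles into `W`, then `g` is in `W` -/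
theorem isW_of_conj (hm : 5 ≤ m) {g : Perm (Pt k m)}
    (h : ∀ i, ∃ f1 f2, f1 ≠ f2 ∧ ∀ x, x ≠ f1 → x ≠ f2 →
      IsW (g * ι i (c3 f1 f2 x) * g⁻¹)) : IsW g := by
  classical
  apply isW_of_adj
  intro z z' hzz
  obtain ⟨i, hi, hrest⟩ := hzz
  obtain ⟨f1, f2, h12, hx⟩ := h i
  have him : ∀ x, x ≠ f1 → x ≠ f2 → ∃ j α, α.IsThreeCycle ∧
      g * ι i (c3 f1 f2 x) * g⁻¹ = ι j α := by
    intro x hx1 hx2
    refine weight_one hm (hx x hx1 hx2) ?_ ?_
    · rw [conj_pow, ← map_pow, c3_pow_three h12 hx2.symm hx1.symm, map_one]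
      simp
    · rw [fc_conj, fc_ι, fc_c3 h12 hx2.symm hx1.symm]
  obtain ⟨x0, hx0⟩ : ∃ x, x ∉ ({f1, f2} : Finset (Fin m)) := by
    by_contra h
    simp only [not_exists, not_not] at h
    have := congrArg Finset.card (Finset.eq_univ_iff_forall.2 h)
    have := Finset.card_le_two (a := f1) (b := f2)
    simp_all
    omega
  simp at hx0
  obtain ⟨j, α0, hα0, e0⟩ := him x0 hx0.1 hx0.2
  let S : Subgroup (Perm (Fin m)) :=
    (ι (m := m) j).range.comap ((MulAut.conj g).toMonoidHom.comp (ι i))
  have hS : ∀ x, x ≠ f1 → x ≠ f2 → c3 f1 f2 x ∈ S := by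
    intro x hx1 hx2
    obtain ⟨j', α, hα, e⟩ := him x hx1 hx2
    by_cases hx0x : x = x0
    · subst hx0x
      exact ⟨α0, e0.symm⟩
    by_cases hjj : j' = j
    · subst hjj; exact ⟨α, e.symm⟩
    · exfalso
      have hc : Commute (g * ι i (c3 f1 f2 x) * g⁻¹) (g * ι i (c3 f1 f2 x0) * g⁻¹) := by
        rw [e, e0]; exact ι_commute hjj _ _
      have hc' : Commute (ι i (c3 f1 f2 x)) (ι i (c3 f1 f2 x0)) := by
        have := hc.map (MulAut.conj g⁻¹)
        simpa [MulAut.conj_apply, mul_assoc] using this
      refine c3_not_commute h12 hx1 hx2 hx0.1 hx0.2 hx0x ?_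
      exact ι_injective i (by simpa using hc'.eq)
  obtain ⟨α, hα, hαz⟩ := c3_trans h12 (by omega) hS (z i) (z' i)
  obtain ⟨β, hβ⟩ := hα
  have ez : ι i α z = z' := by
    funext l
    rcases eq_or_ne l i with rfl | hl
    · simp [hαz]
    · simp [hl, hrest l hl]
  have eg : g z' = ι j β (g z) := by
    rw [hβ, ← ez]
    simp
  have hne : g z ≠ g z' := fun e => hi (congrFun (g.injective e) i)
  rw [eg] at hne ⊢
  refine ⟨j, fun e => hne ?_, fun l hl => by simp [hl]⟩
  funext l
  rcases eq_or_ne l j with rfl | hl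
  · exact e
  · simp [hl]

end Cfsg.Agent.PA24
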