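import Cfsg.Agent.PA24.Cert

/-!
Rotations: elements commuting with the slot group and their slot parts.
-/

set_option autoImplicit false

namespace Cfsg.Agent.PA24

open Equiv Equiv.Perm Finset
open scoped Fin.NatCast

variable {k m s : ℕ} {H : Subgroup (Perm (Pt k m))}

open Classical in
/-- position inside a triple -/
noncomputable def idx (E : Slots k m s) (i : Fin k) (v : Fin m) : Fin 3 :=
  if h : ∃ p, E.f i p = v then h.choose.2 else 0

open Classical in
/-- rotation inside the triples -/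
noncomputable def sh (E : Slots k m s) (i : Fin k) (a : Fin 3) (v : Fin m) : Fin m :=
  if h : ∃ p, E.f i p = v then E.f i (h.choose.1, h.choose.2 + a) else v

/-- the class of a point -/
def Cls (E : Slots k m s) (z w : Pt k m) : Prop :=
  ∀ i, z i = w i ∨ ∃ j, z i ∈ E.tr i j ∧ w i ∈ E.tr i j

variable {E : Slots k m s} {i : Fin k}

theorem idx_f (p : Fin s × Fin 3) : idx E i (E.f i p) = p.2 := by
  have h : ∃ q, E.f i q = E.f i p := ⟨p, rfl⟩
  rw [idx, dif_pos h, E.inj i h.choose_spec]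

theorem sh_f (a : Fin 3) (p : Fin s × Fin 3) :
    sh E i a (E.f i p) = E.f i (p.1, p.2 + a) := by
  have h : ∃ q, E.f i q = E.f i p := ⟨p, rfl⟩
  rw [sh, dif_pos h, E.inj i h.choose_spec]

theorem sh_F (a : Fin 3) {v : Fin m} (h : v ∈ E.F i) : sh E i a v = v := by
  rw [sh, dif_neg]
  rintro ⟨⟨j, b⟩, e⟩
  exact Slots.mem_F.1 h j b e

theorem sh_sh (a b : Fin 3) (v : Fin m) : sh E i a (sh E i b v) = sh E i (b + a) v := by
  by_cases h : v ∈ E.F i
  · rw [sh_F b h, sh_F a h, sh_F _ h]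
  · obtain ⟨j, hj⟩ := Slots.not_mem_F.1 h
    obtain ⟨c, rfl⟩ := Slots.mem_tr.1 hj
    simp [sh_f, add_assoc]

theorem sh_zero (v : Fin m) : sh E i 0 v = v := by
  by_cases h : v ∈ E.F i
  · exact sh_F 0 h
  · obtain ⟨j, hj⟩ := Slots.not_mem_F.1 h
    obtain ⟨c, rfl⟩ := Slots.mem_tr.1 hj
    simp [sh_f]

theorem sh_inj_arg {v : Fin m} (hv : v ∉ E.F i) {a b : Fin 3} (h : sh E i a v = sh E i b v) :
    a = b := by
  obtain ⟨j, hj⟩ := Slots.not_mem_F.1 hv
  obtain ⟨c, rfl⟩ := Slots.mem_tr.1 hj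
  simp only [sh_f] at h
  simpa using (Prod.ext_iff.1 (E.inj i h)).2

theorem sh_eq_pow (a : Fin 3) {j : Fin s} {v : Fin m} (hv : v ∈ E.tr i j) :
    sh E i a v = (E.σ i j ^ a.val) v := by
  obtain ⟨c, rfl⟩ := Slots.mem_tr.1 hv
  rw [sh_f, Slots.σ_pow_f, Fin.cast_val_eq_self]

theorem sh_mem_tr (a : Fin 3) {j : Fin s} {v : Fin m} (hv : v ∈ E.tr i j) :
    sh E i a v ∈ E.tr i j := by
  obtain ⟨c, rfl⟩ := Slots.mem_tr.1 hv
  rw [sh_f]; exact Slots.f_mem_tr _

theorem Cls.refl (z : Pt k m) : Cls E z z := fun _ => Or.inl rfl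

theorem Cls.of_sh {z w : Pt k m} (a : Fin k → Fin 3) (h : ∀ i, w i = sh E i (a i) (z i)) :
    Cls E z w := fun i => by
  by_cases hv : z i ∈ E.F i
  · left; rw [h i, sh_F _ hv]
  · obtain ⟨j, hj⟩ := Slots.not_mem_F.1 hv
    exact Or.inr ⟨j, hj, h i ▸ sh_mem_tr _ hj⟩

theorem Cls.not_mem_F {z w : Pt k m} (h : Cls E z w) {i : Fin k} :
    z i ∉ E.F i ↔ w i ∉ E.F i := by
  rcases h i with e | ⟨j, h1, h2⟩
  · rw [e]
  · exact ⟨fun _ => Slots.not_mem_F_of_tr h2, fun _ => Slots.not_mem_F_of_tr h1⟩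

theorem Cls.mem_tr {z w : Pt k m} (h : Cls E z w) {i : Fin k} {j : Fin s} :
    z i ∈ E.tr i j ↔ w i ∈ E.tr i j := by
  rcases h i with e | ⟨j', h1, h2⟩
  · rw [e]
  · exact ⟨fun h' => Slots.tr_disj h' h1 ▸ h2, fun h' => Slots.tr_disj h' h2 ▸ h1⟩

/-- rotation of `g` at `i` -/
noncomputable def rot (E : Slots k m s) (g : Perm (Pt k m)) (i : Fin k) (z : Pt k m) : Fin 3 :=
  idx E i (g z i) - idx E i (z i)

variable {g : Perm (Pt k m)}

theorem CommE.apply_rot (hg : CommE E g) {z : Pt k m} (hz : z i ∉ E.F i) :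
    g z i = sh E i (rot E g i z) (z i) := by
  obtain ⟨j, hj⟩ := Slots.not_mem_F.1 hz
  obtain ⟨a, ha⟩ := Slots.mem_tr.1 hj
  obtain ⟨b, hb⟩ := Slots.mem_tr.1 ((hg.slab i j z).2 hj)
  simp [rot, ← ha, ← hb, idx_f, sh_f]

theorem CommE.update (hg : CommE E g) (z : Pt k m) {l : Fin k} {j : Fin s} {v : Fin m}
    (h1 : z l ∈ E.tr l j) (h2 : v ∈ E.tr l j) :
    g (Function.update z l v) =
      Function.update (g z) l (sh E l (idx E l v - idx E l (z l)) (g z l)) := by
  obtain ⟨a, ha⟩ := Slots.mem_tr.1 h1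
  obtain ⟨b, hb⟩ := Slots.mem_tr.1 h2
  have e : Function.update z l v = ι l (E.σ l j ^ (b - a : Fin 3).val) z := by
    rw [ι_apply, ← ha, Slots.σ_pow_f, Fin.cast_val_eq_self]
    simp [hb]
  rw [e, ← Perm.mul_apply, map_pow, ((hg l j).pow_right _).eq, Perm.mul_apply, ← map_pow,
    ι_apply]
  congr 1
  rw [← hb, ← ha, idx_f, idx_f, sh_eq_pow _ ((hg.slab l j z).2 h1)]

theorem CommE.cls (hg : CommE E g) {z w : Pt k m} (h : Cls E z w) :
    Cls E (g z) (g w) ∧ (∀ i, z i ∉ E.F i → rot E g i w = rot E g i z) ∧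
      ∀ i, z i = w i → g z i = g w i := by
  classical
  suffices key : ∀ t : Finset (Fin k), Cls E (g z) (g (t.piecewise w z)) ∧
      (∀ i, z i ∉ E.F i → rot E g i (t.piecewise w z) = rot E g i z) ∧
      ∀ i, z i = w i → g z i = g (t.piecewise w z) i by
    simpa using key Finset.univ
  intro t
  induction t using Finset.induction_on with
  | empty => simp [Cls.refl]
  | insert a t ha ih =>
    rw [Finset.piecewise_insert]
    set u := t.piecewise w z with hu
    have hua : u a = z a := by simp [hu, ha]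
    rcases h a with e | ⟨j, h1, h2⟩
    · rw [← e, ← hua, Function.update_eq_self]; exact ih
    · obtain ⟨hc, hr, he⟩ := ih
      have hu1 : u a ∈ E.tr a j := hua ▸ h1
      rw [hg.update u hu1 h2]
      refine ⟨fun i => ?_, fun i hi => ?_, fun i hzw => ?_⟩
      · rcases eq_or_ne i a with rfl | hia
        · exact Or.inr ⟨j, (hg.slab i j z).2 h1, by
            rw [Function.update_self]; exact sh_mem_tr _ ((hg.slab i j u).2 hu1)⟩
        · rw [Function.update_of_ne hia]; exact hc i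
      · rw [← hr i hi]
        rcases eq_or_ne i a with rfl | hia
        · obtain ⟨c, hc'⟩ := Slots.mem_tr.1 ((hg.slab i j u).2 hu1)
          obtain ⟨b, hb⟩ := Slots.mem_tr.1 h2
          obtain ⟨d, hd⟩ := Slots.mem_tr.1 hu1
          simp only [rot]
          rw [hg.update u hu1 h2]
          simp only [Function.update_self, ← hc', ← hb, ← hd, sh_f, idx_f]
          abel
        · simp [rot, hg.update u hu1 h2, hia]
      · rcases eq_or_ne i a with rfl | hia
        · rw [Function.update_self, hua, hzw]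
          simp [sh_zero, ← he i hzw]
        · rw [Function.update_of_ne hia]; exact he i hzw

theorem rot_inv (hg : CommE E g) {z : Pt k m} (hz : g z i ∉ E.F i) :
    rot E g⁻¹ i (g z) = - rot E g i z := by
  simp [rot]

theorem CommE.inv (hg : CommE E g) : CommE E g⁻¹ := fun i j => (hg i j).inv_left

theorem CommE.mul {g' : Perm (Pt k m)} (hg : CommE E g) (hg' : CommE E g') : CommE E (g * g') :=
  fun i j => (hg i j).mul_left (hg' i j)

/-- rotation elements -/
def IsRot (E : Slots k m s) (ζ : Perm (Pt k m)) (r : Fin k → Pt k m → Fin 3) : Prop :=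
  (∀ i z w, Cls E z w → r i z = r i w) ∧ ∀ y i, ζ y i = sh E i (r i y) (y i)

variable {ζ : Perm (Pt k m)} {r : Fin k → Pt k m → Fin 3}

theorem IsRot.cls (h : IsRot E ζ r) (y : Pt k m) : Cls E y (ζ y) :=
  Cls.of_sh (fun i => r i y) (h.2 y)

theorem IsRot.commE (h : IsRot E ζ r) : CommE E ζ := by
  intro i j
  refine Equiv.ext fun y => funext fun l => ?_
  simp only [Perm.mul_apply]
  have hcls : Cls E y (ι i (E.σ i j) y) := fun l => by
    rcases eq_or_ne l i with rfl | hl
    · by_cases hy : y l ∈ E.tr l j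
      · refine Or.inr ⟨j, hy, ?_⟩
        simpa using Slots.inside_mem (fun v hv => Slots.σ_other hv) hy
      · left; simp [Slots.σ_other hy]
    · left; simp [hl]
  rw [h.2, ← h.1 l _ _ hcls]
  rcases eq_or_ne l i with rfl | hl
  · simp only [ι_apply, Function.update_self, h.2]
    by_cases hy : y l ∈ E.F l
    · rw [Slots.σ_other (fun h' => Slots.not_mem_F_of_tr h' hy), sh_F _ hy,
        Slots.σ_other (fun h' => Slots.not_mem_F_of_tr h' hy)]
    · obtain ⟨j', hj'⟩ := Slots.not_mem_F.1 hy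
      obtain ⟨a, ha⟩ := Slots.mem_tr.1 hj'
      by_cases hjj : j' = j
      · subst hjj
        simp [← ha, sh_f, Slots.σ_f, add_right_comm]
      · have hn : ∀ b, E.f l (j', b) ∉ E.tr l j := fun b h' =>
          hjj (Slots.tr_disj (Slots.f_mem_tr b) h')
        simp [← ha, sh_f, Slots.σ_other (hn _)]
  · simp [hl, h.2]

theorem IsRot.mul {ζ' : Perm (Pt k m)} {r' : Fin k → Pt k m → Fin 3} (h : IsRot E ζ r)
    (h' : IsRot E ζ' r') : IsRot E (ζ * ζ') (fun i y => r' i y + r i y) := by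
  refine ⟨fun i z w hzw => by simp only [h.1 i z w hzw, h'.1 i z w hzw], fun y i => ?_⟩
  rw [Perm.mul_apply, h.2, h'.2, ← h.1 i _ _ (h'.cls y), sh_sh]

/-- `ν` flips the triples where `ε = true` and fixes the others -/
def Flips (E : Slots k m s) (ν : Fin k → Perm (Fin m)) (ε : Fin k → Fin s → Bool) : Prop :=
  ∀ i j a, ν i (E.f i (j, a)) = E.f i (j, if ε i j then 1 - a else a)

theorem IsRot.conj {ν : Fin k → Perm (Fin m)} {ε : Fin k → Fin s → Bool}
    (h : IsRot E ζ r) (hν : Flips E ν ε) :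
    IsRot E (bas ν * ζ * (bas ν)⁻¹)
      (fun i y => if ∃ j, y i ∈ E.tr i j ∧ ε i j = true then - r i ((bas ν)⁻¹ y)
        else r i ((bas ν)⁻¹ y)) := by
  have htr : ∀ {i j v}, ν i v ∈ E.tr i j ↔ v ∈ E.tr i j := by
    intro i j v
    constructor
    · intro hv
      obtain ⟨b, hb⟩ := Slots.mem_tr.1 hv
      have : ν i (E.f i (j, if ε i j then 1 - b else b)) = ν i v := by
        rw [hν, ← hb]; split <;> simp
      rw [← (ν i).injective this]; exact Slots.f_mem_tr _
    · intro hv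
      obtain ⟨b, rfl⟩ := Slots.mem_tr.1 hv
      rw [hν]; exact Slots.f_mem_tr _
  have hF : ∀ {i v}, ν i v ∈ E.F i ↔ v ∈ E.F i := fun {i v} => by
    rw [← not_iff_not, Slots.not_mem_F, Slots.not_mem_F]
    exact exists_congr fun j => htr
  refine ⟨fun i z w hzw => ?_, fun y i => ?_⟩
  · have : Cls E ((bas ν)⁻¹ z) ((bas ν)⁻¹ w) := fun l => by
      rw [← map_inv]
      simp only [bas_apply, Pi.inv_apply]
      rcases hzw l with e | ⟨j, h1, h2⟩
      · left; rw [e]
      · refine Or.inr ⟨j, ?_, ?_⟩ <;> rw [← htr] <;> simpa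
    simp only [h.1 i _ _ this, hzw.mem_tr]
  · set x := (bas ν)⁻¹ y with hx
    have hxy : y = bas ν x := by simp [hx]
    simp only [Perm.mul_apply, ← hx, bas_apply, h.2]
    rw [hxy, bas_apply]
    by_cases hxi : x i ∈ E.F i
    · rw [sh_F _ hxi, sh_F _ (hF.2 hxi)]
    · obtain ⟨j, hj⟩ := Slots.not_mem_F.1 hxi
      obtain ⟨a, ha⟩ := Slots.mem_tr.1 hj
      have hiff : (∃ j', ν i (x i) ∈ E.tr i j' ∧ ε i j' = true) ↔ ε i j = true :=
        ⟨fun ⟨j', h1, h2⟩ => Slots.tr_disj (htr.1 h1) hj ▸ h2, fun h2 => ⟨j, htr.2 hj, h2⟩⟩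
      by_cases hε : ε i j = true
      · rw [if_pos (hiff.2 hε), ← ha, sh_f, hν i j, hν i j, if_pos hε, if_pos hε, sh_f]
        congr 2
        generalize r i x = q
        clear ha
        revert a q; dsimp only; decide
      · rw [if_neg (fun h' => hε (hiff.1 h')), ← ha, sh_f, hν i j, hν i j, if_neg hε,
          if_neg hε, sh_f]

/-- a rotation element in `H` living in one slot is constant -/
theorem rot_single (hH : Hyp H) (hA : ¬ alternatingGroup (Pt k m) ≤ H) (hζ : ζ ∈ H)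
    (h : IsRot E ζ r) (c : Fin k) (j : Fin s)
    (hz : ∀ i y, y i ∉ E.F i → ¬(i = c ∧ y i ∈ E.tr i j) → r i y = 0) :
    ∀ y w, y c ∈ E.tr c j → w c ∈ E.tr c j → r c y = r c w := by
  have hoth : ∀ i y, ¬(i = c ∧ y i ∈ E.tr i j) → ζ y i = y i := by
    intro i y hn
    rw [h.2]
    by_cases hy : y i ∈ E.F i
    · exact sh_F _ hy
    · rw [hz i y hy hn, sh_zero]
  have hW : IsW ζ := by
    by_contra hW
    refine hA (engine hH hζ hW c (E.tr c j) ?_ ?_ fun i hi => ⟨fun z v _ => ?_, fun j' => h.commE i j'⟩)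
    · have : (E.tr c j).card ≤ 3 := Finset.card_image_le.trans (by simp)
      have := hH.hm
      omega
    · intro z hne
      by_contra hzc
      exact hne (funext fun i => hoth i z (fun ⟨e, hm⟩ => hzc (e ▸ hm)))
    · rw [hoth i z (fun e => hi e.1)]
  obtain ⟨π, τ, hW⟩ := hW
  intro y w hy hw
  have hπ : π.symm c = c := by
    by_contra hne
    obtain ⟨v, hv⟩ := Finset.card_pos.1
      (lt_of_lt_of_le two_pos (Slots.two_le_F (E := E) (i := c)))
    have hv' : v ∉ E.tr c j := fun h' => Slots.not_mem_F_of_tr h' hv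
    have hval : ∀ x, τ c x = v := fun x => by
      have := hW (Function.update (fun _ => v) (π.symm c) x) c
      rw [hoth c _ (fun h' => hv' (by simpa [Ne.symm hne] using h'.2))] at this
      simpa [Ne.symm hne] using this.symm
    obtain ⟨v', hv''⟩ := exists_fresh hH.hm {(τ c).symm v} (by simp)
    simp at hv''
    exact hv'' (by rw [← hval v']; simp)
  obtain ⟨a, ha⟩ := Slots.mem_tr.1 hy
  have hcls : Cls E w (Function.update w c (y c)) := fun l => by
    rcases eq_or_ne l c with rfl | hl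
    · exact Or.inr ⟨j, hw, by simpa using hy⟩
    · left; simp [hl]
  rw [h.1 c _ _ hcls]
  apply sh_inj_arg (v := y c) (Slots.not_mem_F_of_tr hy)
  have e1 := hW y c
  have e2 := hW (Function.update w c (y c)) c
  rw [h.2, hπ] at e1 e2
  simp only [Function.update_self] at e2
  rw [e1, e2]

end Cfsg.Agent.PA24
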